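import Cfsg.Agent.Lib.J1FromOrder.Sylow
import Cfsg.Agent.Lib.Cores.Residual
import Cfsg.Agent.BlockCharsA.DefectZeroVanish
import Cfsg.Agent.BlocksChars.Degrees
import Cfsg.Agent.S0107
import Cfsg.Agent.S0514
import Cfsg.Agent.S4481
import Cfsg.Agent.S4482

/-! A simple group of order `175560` has no dihedral Sylow `2`-subgroup. -/

set_option autoImplicit false
set_option linter.style.haveILetI false

namespace Cfsg.Agent.J1FromOrder

open Subgroup DihedralGroup

/-- The divisors of `21945`. -/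
def oddDivisors : List ℕ :=
  [1, 3].flatMap fun b => [1, 5].flatMap fun c => [1, 7].flatMap fun d => [1, 11].flatMap fun f =>
    [1, 19].map fun g => b * c * d * f * g

/-- The only solution of the order formula. -/
def formulaChk : Bool :=
  oddDivisors.all fun w => oddDivisors.all fun u => oddDivisors.all fun v =>
    !decide (u ∣ w ∧ v ∣ w) || oddDivisors.all fun x =>
      decide ((1 < x → 21945 * (x - 1) ^ 2 = 8 * x * (x + 1) * w * (u + v) ^ 2 → w = 1045) ∧
        (21945 * (x + 1) ^ 2 = 8 * x * (x - 1) * w * (u + v) ^ 2 → w = 1045))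

set_option maxRecDepth 20000 in
theorem formulaChk_eq : formulaChk = true := by decide +kernel

theorem mem_oddDivisors {w : ℕ} (h : w ∣ 21945) : w ∈ oddDivisors := by
  have key : ∀ q : ℕ, q.Prime → ∀ k, k ∣ q → k ∈ [1, q] := fun q hq k hk => by
    simpa using (Nat.dvd_prime hq).1 hk
  obtain ⟨k4, g, h4, hg, rfl⟩ := Nat.dvd_mul.1 (show w ∣ 3 * 5 * 7 * 11 * 19 from h)
  obtain ⟨k3, f, h3, hf, rfl⟩ := Nat.dvd_mul.1 h4
  obtain ⟨k2, d, h2, hd, rfl⟩ := Nat.dvd_mul.1 h3
  obtain ⟨b, c, hb, hc, rfl⟩ := Nat.dvd_mul.1 h2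
  simp only [oddDivisors, List.mem_flatMap, List.mem_map]
  exact ⟨b, key 3 Nat.prime_three b hb, c, key 5 (by norm_num) c hc, d, key 7 (by norm_num) d hd,
    f, key 11 (by norm_num) f hf, g, key 19 (by norm_num) g hg, rfl⟩

theorem formula_solution {w u v x : ℕ} {δ : ℤ} (hw : w ∣ 21945) (hu : u ∣ w) (hv : v ∣ w)
    (hx : x ∣ 175560) (hδ : δ = 1 ∨ δ = -1) (hne : (x : ℤ) ≠ δ)
    (h : 21945 * ((x : ℤ) - δ) ^ 2 = 8 * x * (x + δ) * w * (u + v) ^ 2) : w = 1045 := by
  have hx0 : 0 < x := Nat.pos_of_dvd_of_pos hx (by norm_num)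
  have hodd : ¬ 2 ∣ x := fun h2 => by
    have h8 : (2 : ℤ) ∣ 21945 * ((x : ℤ) - δ) ^ 2 :=
      ⟨4 * x * (x + δ) * w * (u + v) ^ 2, by rw [h]; ring⟩
    have hodd' : ¬ (2 : ℤ) ∣ ((x : ℤ) - δ) := by
      obtain ⟨k, rfl⟩ := h2
      rcases hδ with rfl | rfl <;> · push_cast; omega
    rcases Int.prime_two.dvd_or_dvd h8 with h' | h'
    · norm_num at h'
    · exact hodd' (Int.prime_two.dvd_of_dvd_pow h')
  have hxd : x ∣ 21945 := by
    refine Nat.Coprime.dvd_of_dvd_mul_left ?_ (show x ∣ 2 ^ 3 * 21945 from hx)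
    exact ((Nat.prime_two.coprime_iff_not_dvd.2 hodd).pow_left 3).symm
  have hall := List.all_eq_true.1 (List.all_eq_true.1 (List.all_eq_true.1 formulaChk_eq w
    (mem_oddDivisors hw)) u (mem_oddDivisors (hu.trans hw))) v (mem_oddDivisors (hv.trans hw))
  simp only [decide_eq_true (show u ∣ w ∧ v ∣ w from ⟨hu, hv⟩), Bool.not_true, Bool.false_or,
    List.all_eq_true, decide_eq_true_eq] at hall
  obtain ⟨ha, hb⟩ := hall x (mem_oddDivisors hxd)
  rcases hδ with rfl | rfl
  · refine ha (by omega) ?_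
    zify [show 1 ≤ x by omega]
    exact h
  · refine hb ?_
    zify [show 1 ≤ x by omega]
    linear_combination h

theorem center_dihedral : ∀ x y : DihedralGroup 4, x ≠ 1 → y ≠ 1 →
    (∀ z, z * x = x * z) → (∀ z, z * y = y * z) → x = y := by decide +kernel

theorem dihedral_facts : (sr 0 : DihedralGroup 4) * r 1 * (sr 0)⁻¹ = (r 1)⁻¹ ∧
    orderOf (r 1 : DihedralGroup 4) = 4 ∧ (sr 0 : DihedralGroup 4) * sr 0 = 1 ∧
    (r 1 : DihedralGroup 4) * sr 0 * (r 1 * sr 0) = 1 ∧
    (r 1 : DihedralGroup 4) ^ 2 ≠ sr 0 ∧ (r 1 : DihedralGroup 4) ^ 2 ≠ r 1 * sr 0 ∧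
    (r 1 : DihedralGroup 4) * sr 0 ≠ 1 ∧ (sr 0 : DihedralGroup 4) ≠ 1 ∧
    Commute ((r 1 : DihedralGroup 4) ^ 2) (sr 0) ∧ Commute ((r 1 : DihedralGroup 4) ^ 2) (r 1 * sr 0) ∧
    ∀ x : DihedralGroup 4, ∃ i : Fin 4, x = r 1 ^ (i : ℕ) ∨ x = sr 0 * r 1 ^ (i : ℕ) := by
  refine ⟨by decide +kernel, orderOf_r_one, by decide +kernel, by decide +kernel, by decide +kernel,
    by decide +kernel, by decide +kernel, by decide +kernel, ?_, ?_, by decide +kernel⟩
  · show _ * _ = _ * _; decide +kernel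
  · show _ * _ = _ * _; decide +kernel

variable {G : Type*} [Group G] [Finite G]

/-- The centralizer of a four-group `⟨x, y⟩` has order `4` times an odd number. -/
theorem joint_centralizer (hG : Nat.card G = 175560) (S : Sylow 2 G)
    (e : (S : Subgroup G) ≃* DihedralGroup 4) {x y : G} (hx : orderOf x = 2) (hy : orderOf y = 2)
    (hne : x ≠ y) (hc : Commute x y) :
    ∃ a : ℕ, Nat.card (centralizer ({x, y} : Set G)) = 4 * a ∧ ¬ 2 ∣ a := by
  haveI : Fact (Nat.Prime 2) := ⟨Nat.prime_two⟩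
  set D := centralizer ({x, y} : Set G) with hD
  have hmem : ∀ g : G, g * x = x * g → g * y = y * g → g ∈ D := fun g h1 h2 => by
    refine mem_centralizer_iff.2 fun z hz => ?_
    rcases hz with rfl | rfl
    exacts [h1.symm, h2.symm]
  have hxy : x * x = 1 ∧ y * y = 1 := by
    have h1 := pow_orderOf_eq_one x; have h2 := pow_orderOf_eq_one y
    rw [hx, sq] at h1; rw [hy, sq] at h2; exact ⟨h1, h2⟩
  have hxD : x ∈ D := hmem x rfl hc.eq
  have hyD : y ∈ D := hmem y hc.eq.symm rfl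
  let K : Subgroup G :=
    { carrier := {g | g = 1 ∨ g = x ∨ g = y ∨ g = x * y}
      one_mem' := Or.inl rfl
      mul_mem' := by
        have e1 : y * x = x * y := hc.eq.symm
        have e2 : y * (x * y) = x := by rw [← mul_assoc, e1, mul_assoc, hxy.2, mul_one]
        have e3 : x * (x * y) = y := by rw [← mul_assoc, hxy.1, one_mul]
        rintro a b (rfl | rfl | rfl | rfl) (rfl | rfl | rfl | rfl) <;>
          simp only [Set.mem_setOf_eq, one_mul, mul_one, mul_assoc, hxy.1, hxy.2, e1, e2, e3] <;> simp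
      inv_mem' := by
        rintro a (rfl | rfl | rfl | rfl)
        · simp
        · exact Or.inr (Or.inl (inv_eq_of_mul_eq_one_right hxy.1))
        · exact Or.inr (Or.inr (Or.inl (inv_eq_of_mul_eq_one_right hxy.2)))
        · exact Or.inr (Or.inr (Or.inr (inv_eq_of_mul_eq_one_right (by
            rw [hc.symm.mul_mul_mul_comm, hxy.1, hxy.2, one_mul])))) }
  have hp : IsPGroup 2 K := fun g => by
    refine ⟨1, Subtype.ext ?_⟩
    show (g : G) ^ 2 ^ 1 = 1
    rw [pow_one, sq]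
    rcases g.2 with h | h | h | h <;> rw [h]
    · rw [one_mul]
    · exact hxy.1
    · exact hxy.2
    · rw [hc.symm.mul_mul_mul_comm, hxy.1, hxy.2, one_mul]
  have h4 : 4 ∣ Nat.card D := by
    obtain ⟨k, hk⟩ := IsPGroup.iff_card.1 hp
    have hx1 : x ≠ 1 := fun h => by rw [h, orderOf_one] at hx; norm_num at hx
    have hy1 : y ≠ 1 := fun h => by rw [h, orderOf_one] at hy; norm_num at hy
    have hinj : Function.Injective (fun i : Fin 3 =>
        (![⟨1, Or.inl rfl⟩, ⟨x, Or.inr (Or.inl rfl)⟩, ⟨y, Or.inr (Or.inr (Or.inl rfl))⟩] i : K)) := by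
      intro i j hij
      have h := congrArg Subtype.val hij
      fin_cases i <;> fin_cases j <;>
        first
          | rfl
          | exact absurd h hx1.symm
          | exact absurd h hy1.symm
          | exact absurd h hx1
          | exact absurd h hy1
          | exact absurd h hne
          | exact absurd h hne.symm
    have h2 := Nat.card_le_card_of_injective _ hinj
    rw [Nat.card_eq_fintype_card, Fintype.card_fin, hk] at h2
    have hle : K ≤ D := by
      rintro g (rfl | rfl | rfl | rfl)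
      exacts [one_mem _, hxD, hyD, mul_mem hxD hyD]
    refine dvd_trans ?_ (card_dvd_of_le hle)
    rw [hk]
    rcases k with _ | _ | k
    · norm_num at h2
    · norm_num at h2
    · exact ⟨2 ^ k, by ring⟩
  obtain ⟨a, ha⟩ := h4
  refine ⟨a, ha, fun h2 => ?_⟩
  obtain ⟨Q, hQ⟩ := Sylow.exists_subgroup_card_pow_prime (G := D) 2 (n := 3)
    (show 2 ^ 3 ∣ Nat.card D by rw [ha]; obtain ⟨b, rfl⟩ := h2; exact ⟨b, by ring⟩)
  have hQ8 : Nat.card (Q.map D.subtype) = 8 := by rw [card_subtype, hQ]; norm_num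
  let R : Sylow 2 G := Sylow.ofCard (Q.map D.subtype) (by
    rw [hQ8]
    have h3 := Sylow.card_eq_multiplicity S
    rw [card_sylow_two hG S] at h3
    exact h3)
  have hmemR : ∀ z : G, (∀ g ∈ (R : Subgroup G), g * z = z * g) → z * z = 1 → z ∈ (R : Subgroup G) := by
    intro z hz hz2
    have hzp : IsPGroup 2 (zpowers z) := by
      refine IsPGroup.iff_card.2 ?_
      rw [Nat.card_zpowers]
      obtain ⟨i, -, hi⟩ := (Nat.dvd_prime_pow Nat.prime_two).1
        (show orderOf z ∣ 2 ^ 1 from orderOf_dvd_of_pow_eq_one (by rw [pow_one, sq, hz2]))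
      exact ⟨i, hi⟩
    have hle : zpowers z ≤ normalizer ((R : Subgroup G) : Set G) :=
      zpowers_le.2 (centralizer_le_normalizer _ (mem_centralizer_iff.2 hz))
    have := R.3 (IsPGroup.to_sup_of_normal_right' hzp R.2 hle) le_sup_right
    exact this.le (mem_sup_left (mem_zpowers z))
  have hR : ∀ g ∈ (R : Subgroup G), g * x = x * g ∧ g * y = y * g := by
    rintro g ⟨q, -, rfl⟩
    exact ⟨(mem_centralizer_iff.1 q.2 x (Or.inl rfl)).symm, (mem_centralizer_iff.1 q.2 y (Or.inr rfl)).symm⟩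
  have hxR := hmemR x (fun g hg => (hR g hg).1) hxy.1
  have hyR := hmemR y (fun g hg => (hR g hg).2) hxy.2
  let f := (R.equiv S).trans e
  have hne1 : ∀ {z : G} (hz : z ∈ (R : Subgroup G)), orderOf z = 2 → f ⟨z, hz⟩ ≠ 1 := by
    intro z hz hzo h
    rw [← f.map_one] at h
    rw [show z = 1 from congrArg Subtype.val (f.injective h)] at hzo
    simp at hzo
  have := center_dihedral (f ⟨x, hxR⟩) (f ⟨y, hyR⟩) (hne1 hxR hx) (hne1 hyR hy)
    (fun z => by
      obtain ⟨g, rfl⟩ := f.surjective z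
      rw [← map_mul, ← map_mul]
      exact congrArg f (Subtype.ext (hR g g.2).1))
    (fun z => by
      obtain ⟨g, rfl⟩ := f.surjective z
      rw [← map_mul, ← map_mul]
      exact congrArg f (Subtype.ext (hR g g.2).2))
  exact hne (congrArg Subtype.val (f.injective this))

theorem not_dihedral [IsSimpleGroup G] (hG : Nat.card G = 175560) (S : Sylow 2 G)
    (e : (S : Subgroup G) ≃* DihedralGroup 4) : False := by
  haveI : Fact (Nat.Prime 2) := ⟨Nat.prime_two⟩
  obtain ⟨hrel, hr4, hs2, hrs2, hJτ, hJστ, hrs1, hs1, hcτ, hcστ, hgen⟩ := dihedral_facts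
  let ι : DihedralGroup 4 →* G := (S : Subgroup G).subtype.comp e.symm.toMonoidHom
  have hι : Function.Injective ι := fun a b h => e.symm.injective (Subtype.ext h)
  set σ := ι (r 1)
  set τ := ι (sr 0)
  have hσo : orderOf σ = 4 := (orderOf_injective ι hι _).trans hr4
  have hτo : orderOf τ = 2 := by
    rw [orderOf_injective ι hι, orderOf_eq_prime (by rw [sq]; exact hs2) hs1]
  have hσS : σ ∈ (S : Subgroup G) := (e.symm (r 1)).2
  have hτS : τ ∈ (S : Subgroup G) := (e.symm (sr 0)).2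
  set J := σ ^ 2 with hJ
  have hJo : orderOf J = 2 := by rw [hJ, orderOf_pow, hσo]; norm_num
  have hστo : orderOf (σ * τ) = 2 := by
    rw [← map_mul, orderOf_injective ι hι, orderOf_eq_prime (by rw [sq]; exact hrs2) hrs1]
  have hO : Cfsg.pResidual 2 G = ⊤ := by
    obtain ⟨g, hg⟩ := exists_prime_orderOf_dvd_card' (G := G) 3 (hp := ⟨Nat.prime_three⟩)
      (by rw [hG]; norm_num)
    refine (inferInstance : (Cfsg.pResidual 2 G).Normal).eq_bot_or_eq_top.resolve_left fun h => ?_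
    have hmem : g ∈ Cfsg.pResidual 2 G := subset_closure (by
      show Nat.Coprime (orderOf g) 2
      rw [hg]; norm_num)
    rw [h, mem_bot] at hmem
    rw [hmem, orderOf_one] at hg
    norm_num at hg
  have hcl : ∀ x y : G, orderOf x = 2 → orderOf y = 2 → IsConj x y := fun x y hx hy =>
    isConj_iff.2 (Cfsg.Agent.S0107.result S 2 le_rfl ⟨e⟩ hO x y hx hy)
  obtain ⟨M, hM⟩ := BlockCharsA.DefectZeroVanish.exists_modular (p := 2) Nat.prime_two
  obtain ⟨-, χ₁, χ₂, χ₃, χ', δ₁, δ₂, δ₃, hδ, -, -, -, hne1, -, -, -, -, -, -, hblock, hval, -⟩ :=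
    Cfsg.Agent.S4481.result M hM 3 le_rfl S ⟨e⟩ σ hσS (by rw [hσo]; norm_num) _
      (Complex.isPrimitiveRoot_exp (2 ^ (3 - 1)) (by norm_num))
  have hclo : closure ({σ, τ} : Set G) = (S : Subgroup G) := by
    refine le_antisymm ((closure_le _).2 (by rintro z (rfl | rfl); exacts [hσS, hτS])) fun z hz => ?_
    have hz' : z = ι (e ⟨z, hz⟩) := by
      show z = ((e.symm (e ⟨z, hz⟩) : (S : Subgroup G)) : G)
      rw [e.symm_apply_apply]
    have hσm : σ ∈ closure ({σ, τ} : Set G) := subset_closure (Or.inl rfl)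
    have hτm : τ ∈ closure ({σ, τ} : Set G) := subset_closure (Or.inr rfl)
    obtain ⟨i, hi | hi⟩ := hgen (e ⟨z, hz⟩)
    · rw [hz', hi, map_pow]; exact pow_mem hσm _
    · rw [hz', hi, map_mul, map_pow]; exact mul_mem hτm (pow_mem hσm _)
  have hχ₁ : χ₁ ∈ Cfsg.principalBlock M G := by rw [hblock]; exact Or.inr (Or.inl rfl)
  obtain ⟨hxne, hform⟩ := Cfsg.Agent.S4482.result M hM 3 le_rfl S σ τ hσS hτS
    (by rw [hσo]; norm_num) hτo
    (by show ι (sr 0) * ι (r 1) * (ι (sr 0))⁻¹ = (ι (r 1))⁻¹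
        rw [← map_inv, ← map_inv, ← map_mul, ← map_mul, hrel])
    hclo ⟨hcl _ _ hJo hτo, hcl _ _ hJo hστo⟩ χ₁ hχ₁ hne1 δ₁ hδ (fun l h0 h1 => (hval l h0 h1).1)
  rw [show (2 : ℕ) ^ (3 - 2) = 2 from rfl, ← hJ] at hform
  obtain ⟨a, ha, ha2⟩ := joint_centralizer hG S e hJo hτo
    (by rw [hJ]; show ι (r 1) ^ 2 ≠ ι (sr 0); rw [← map_pow]; exact fun h => hJτ (hι h))
    (by rw [hJ]; show Commute (ι (r 1) ^ 2) (ι (sr 0)); rw [← map_pow]; exact hcτ.map ι)
  obtain ⟨b, hb, hb2⟩ := joint_centralizer hG S e hJo hστo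
    (by rw [hJ]; show ι (r 1) ^ 2 ≠ ι (r 1) * ι (sr 0); rw [← map_pow, ← map_mul]; exact fun h => hJστ (hι h))
    (by rw [hJ]; show Commute (ι (r 1) ^ 2) (ι (r 1) * ι (sr 0)); rw [← map_pow, ← map_mul]; exact hcστ.map ι)
  rw [ha, hb] at hform
  set C := centralizer ({J} : Set G) with hC
  obtain ⟨W, hWn, hWo, k, hk⟩ := Cfsg.Agent.S0514.result S 4 (by norm_num) ⟨e⟩ J hJo
  set w := Nat.card W
  have h8C : 8 ∣ Nat.card C := by
    rw [← card_sylow_two hG S]
    refine card_dvd_of_le fun z hz => mem_centralizer_singleton_iff.2 ?_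
    have hcen : ∀ q : DihedralGroup 4, q * r 1 ^ 2 = r 1 ^ 2 * q := by decide +kernel
    have hz' : z = ι (e ⟨z, hz⟩) := by
      show z = ((e.symm (e ⟨z, hz⟩) : (S : Subgroup G)) : G)
      rw [e.symm_apply_apply]
    rw [hz', hJ, show σ ^ 2 = ι (r 1 ^ 2) from (map_pow ι _ _).symm, ← map_mul, ← map_mul, hcen]
  have hmul : w * 2 ^ k = Nat.card C := by rw [← hk]; exact W.card_mul_index
  have hdvd : Nat.card C ∣ 175560 := hG ▸ card_subgroup_dvd_card C
  have hw2 : Nat.Coprime 2 w := Nat.prime_two.coprime_iff_not_dvd.2 fun h =>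
    (Nat.not_even_iff_odd.2 hWo) (even_iff_two_dvd.2 h)
  have hk3 : 2 ^ k = 8 := by
    have h1 : 2 ^ 3 ∣ 2 ^ k := (hw2.pow_left 3).dvd_of_dvd_mul_left
      (show 2 ^ 3 ∣ w * 2 ^ k from hmul ▸ h8C)
    have h2 : 2 ^ k ∣ 8 * 21945 := (dvd_mul_left _ w).trans (hmul ▸ hdvd)
    have h3 : 2 ^ k ∣ 8 := ((show Nat.Coprime 2 21945 by norm_num).pow_left k).dvd_of_dvd_mul_right h2
    exact Nat.dvd_antisymm h3 h1
  rw [hk3] at hmul
  have hw : w ∣ 21945 :=
    (hw2.pow_left 3).symm.dvd_of_dvd_mul_left ((dvd_mul_right w 8).trans (hmul ▸ hdvd))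
  have hsub : ∀ {y : G} {q : ℕ}, Nat.card (centralizer ({J, y} : Set G)) = 4 * q → ¬ 2 ∣ q →
      q ∣ w := fun {y q} hq hq2 => by
    have h : centralizer ({J, y} : Set G) ≤ C := centralizer_le (by simp)
    have h1 : q ∣ w * 8 := hmul ▸ ((dvd_mul_left q 4).trans (hq ▸ card_dvd_of_le h))
    exact ((Nat.prime_two.coprime_iff_not_dvd.2 hq2).pow_left 3).symm.dvd_of_dvd_mul_right h1
  obtain ⟨u, hu⟩ := hsub ha ha2
  obtain ⟨v, hv⟩ := hsub hb hb2
  set x := Cfsg.charDegree (χ₁ : G → ℂ)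
  haveI := Fintype.ofFinite G
  have hxd : x ∣ 175560 := hG ▸ BlocksChars.Degrees.charDegree_dvd_card χ₁
  have key : 21945 * ((x : ℤ) - δ₁) ^ 2 = 8 * x * (x + δ₁) * w * (u + v) ^ 2 := by
    have ha0 : (a : ℚ) ≠ 0 := by exact_mod_cast (show a ≠ 0 by rintro rfl; simp at ha2)
    have hb0 : (b : ℚ) ≠ 0 := by exact_mod_cast (show b ≠ 0 by rintro rfl; simp at hb2)
    have hwq : (w : ℚ) = a * u := by exact_mod_cast hu
    have hwq' : (w : ℚ) = b * v := by exact_mod_cast hv
    have hCq : (Nat.card C : ℚ) = 8 * w := by rw [← hmul]; push_cast; ring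
    rw [hG, hCq] at hform
    push_cast at hform
    have e1 : 1 / (4 * (a : ℚ)) = u / (4 * w) := by
      rw [div_eq_div_iff (by simpa using ha0) (by
        rw [hwq]; exact mul_ne_zero four_ne_zero (mul_ne_zero ha0 (by
          intro h; rw [h, mul_zero] at hwq; exact_mod_cast absurd hwq (by
            exact_mod_cast (show w ≠ 0 from Nat.card_pos.ne'))))), hwq]
      ring
    have e2 : 1 / (4 * (b : ℚ)) = v / (4 * w) := by
      rw [div_eq_div_iff (by simpa using hb0) (by
        exact mul_ne_zero four_ne_zero (by exact_mod_cast (show w ≠ 0 from Nat.card_pos.ne'))), hwq']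
      ring
    rw [e1, e2] at hform
    have hw0 : (w : ℚ) ≠ 0 := by exact_mod_cast (show w ≠ 0 from Nat.card_pos.ne')
    have key' : (21945 : ℚ) * ((x : ℚ) - δ₁) ^ 2 = 8 * x * (x + δ₁) * w * (u + v) ^ 2 := by
      field_simp at hform
      nlinarith [hform]
    exact_mod_cast key'
  have hw1045 := formula_solution hw ⟨a, by rw [hu, mul_comm]⟩ ⟨b, by rw [hv, mul_comm]⟩ hxd hδ hxne key
  -- a subgroup of order `1045` normalizes a Sylow `19`-subgroup
  haveI : Fact (Nat.Prime 19) := ⟨by norm_num⟩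
  obtain ⟨P⟩ : Nonempty (Sylow 19 W) := inferInstance
  have hPn : (P : Subgroup W).Normal := by
    haveI : Subsingleton (Sylow 19 W) := by
      refine (Nat.card_eq_one_iff_unique.1 ?_).1
      have h1 := (P.card_dvd_index).trans (dvd_of_mul_left_eq _ (P : Subgroup W).card_mul_index)
      have h2 : Nat.card (Sylow 19 W) ≡ 1 [MOD 19] := card_sylow_modEq_one 19 W
      have h3 : w = 5 * 11 * 19 := hw1045
      rw [show Nat.card W = 5 * 11 * 19 from h3] at h1
      have key : ∀ d ∈ Nat.divisors (5 * 11 * 19), d % 19 = 1 → d = 1 := by decide +kernel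
      exact key _ (Nat.mem_divisors.2 ⟨h1, by norm_num⟩) h2
    exact P.normal_of_subsingleton
  let f : W →* G := C.subtype.comp W.subtype
  have hf : Function.Injective f := Subtype.val_injective.comp Subtype.val_injective
  have hPcard : Nat.card ((P : Subgroup W).map f) = 19 := by
    rw [card_map_of_injective hf, P.card_eq_multiplicity]
    have h3 : Nat.card W = 5 * 11 * 19 := hw1045
    rw [h3, Nat.factorization_mul (by norm_num) (by norm_num)]
    simp [Nat.Prime.factorization_self (show Nat.Prime 19 by norm_num),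
      Nat.factorization_eq_zero_of_not_dvd (show ¬ 19 ∣ 55 by norm_num)]
  obtain ⟨Q, hQ⟩ := Forms.DicksonShapes.exists_sylow (G := G) (r := 19) (by rw [hG]; norm_num) _ hPcard
  have hle : f.range ≤ normalizer ((Q : Subgroup G) : Set G) := by
    rintro _ ⟨z, rfl⟩
    rw [hQ]
    exact le_normalizer_map f ⟨z, by rw [normalizer_eq_top]; trivial, rfl⟩
  have hd1 : 1045 ∣ Nat.card (normalizer ((Q : Subgroup G) : Set G)) := by
    refine dvd_trans ?_ (card_dvd_of_le hle)
    rw [← Nat.card_congr (MonoidHom.ofInjective hf).toEquiv]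
    exact hw1045.symm.dvd
  have hn := card_sylow_modEq_one 19 G
  have hidx := Q.card_eq_index_normalizer
  have hprod := (normalizer ((Q : Subgroup G) : Set G)).card_mul_index
  obtain ⟨j, hj⟩ := hd1
  rw [show (normalizer ((Q : Subgroup G) : Set G)).index = Nat.card (Sylow 19 G) from hidx.symm, hj, hG,
    mul_assoc] at hprod
  have h168 : j * Nat.card (Sylow 19 G) = 168 := Nat.eq_of_mul_eq_mul_left (by norm_num : 0 < 1045) hprod
  have key : ∀ d ∈ Nat.divisors 168, d % 19 = 1 → d = 1 := by decide +kernel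
  have h1 := key _ (Nat.mem_divisors.2 ⟨Dvd.intro_left j h168, by norm_num⟩) hn
  replace h1 : (normalizer ((Q : Subgroup G) : Set G)).index = 1 := hidx.symm.trans h1
  rw [index_eq_one, normalizer_eq_top_iff] at h1
  rcases h1.eq_bot_or_eq_top with h | h
  · have := hPcard; rw [← hQ, h, card_bot] at this; norm_num at this
  · have := hPcard; rw [← hQ, h, card_top, hG] at this; norm_num at this

end Cfsg.Agent.J1FromOrder
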