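import Cfsg.Agent.Lib.J1FromOrder.Sylow
import Cfsg.Agent.Lib.Involutions.StronglyEmbedded
import Cfsg.Agent.Lib.SolvableSignalizer.Connected
import Cfsg.Agent.Lib.PLocal.PSolvable
import Cfsg.Agent.Lib.PLocal.SolvableSeparable
import Cfsg.Agent.Lib.Coprime.Sylow
import Cfsg.Agent.S0217
import Cfsg.Agent.S1279

/-! With elementary Sylow `2`-subgroups some centralizer of an involution is insoluble. -/

set_option autoImplicit false
set_option linter.style.haveILetI false

namespace Cfsg.Agent.J1FromOrder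

open Subgroup

variable {G : Type*} [Group G] [Finite G]

theorem comm_exp2 {S : Subgroup G} (h : ∀ x ∈ S, x * x = 1) :
    ∀ a ∈ S, ∀ b ∈ S, a * b = b * a := fun a ha b hb => by
  have h1 : a * b = (a * b)⁻¹ := eq_inv_of_mul_eq_one_left (h _ (mul_mem ha hb))
  rw [h1, mul_inv_rev, inv_eq_of_mul_eq_one_right (h a ha), inv_eq_of_mul_eq_one_right (h b hb)]

theorem transitive [IsSimpleGroup G] (hG : Nat.card G = 175560) (S : Sylow 2 G)
    (hexp : ∀ x ∈ (S : Subgroup G), x * x = 1) :
    7 ∣ Nat.card (normalizer ((S : Subgroup G) : Set G)) ∧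
    ∀ a ∈ (S : Subgroup G), a ≠ 1 → ∀ b ∈ (S : Subgroup G), b ≠ 1 →
      ∃ n ∈ normalizer ((S : Subgroup G) : Set G), n * a * n⁻¹ = b := by
  classical
  haveI : Fact (Nat.Prime 2) := ⟨Nat.prime_two⟩
  set N := normalizer ((S : Subgroup G) : Set G)
  letI : MulAction N (S : Subgroup G) :=
    MulAction.compHom _ ((S : Subgroup G).normalizerMonoidHom)
  have hsmul : ∀ (n : N) (x : (S : Subgroup G)), ((n • x : (S : Subgroup G)) : G) = n * x * (n : G)⁻¹ :=
    fun n x => rfl
  haveI := Fintype.ofFinite (S : Subgroup G)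
  let O : ↥(S : Subgroup G) → Finset ↥(S : Subgroup G) := fun a =>
    Finset.univ.filter fun x => x ∈ MulAction.orbit N a
  have hcardO : ∀ a, (O a).card = Nat.card (MulAction.orbit N a) := fun a => by
    rw [Nat.card_eq_fintype_card]
    exact (Fintype.card_of_subtype _ (fun x => by simp [O])).symm
  have hdvd : ∀ a : ↥(S : Subgroup G), Nat.card (MulAction.orbit N a) * Nat.card (MulAction.stabilizer N a) = Nat.card N :=
    fun a => by rw [← Nat.card_prod, Nat.card_congr (MulAction.orbitProdStabilizerEquivGroup N a)]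
  have hodd : ∀ a, (O a).card % 2 = 1 := fun a => by
    rw [hcardO]
    have h8 : 8 ∣ Nat.card (MulAction.stabilizer N a) := by
      have hle : (S : Subgroup G).subgroupOf N ≤ MulAction.stabilizer N a := fun n hn =>
        Subtype.ext (by
          rw [hsmul, comm_exp2 hexp (n : G) (mem_subgroupOf.1 hn) a a.2]; group)
      have := card_dvd_of_le hle
      rwa [Nat.card_congr (subgroupOfEquivOfLe le_normalizer).toEquiv, card_sylow_two hG S] at this
    obtain ⟨j, hj⟩ := h8
    rcases Nat.mod_two_eq_zero_or_one (Nat.card (MulAction.orbit N a)) with h2 | h2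
    · exfalso
      obtain ⟨i, hi⟩ : 2 ∣ Nat.card (MulAction.orbit N a) := Nat.dvd_of_mod_eq_zero h2
      have h16' : 16 ∣ Nat.card N := ⟨i * j, by rw [← hdvd a, hi, hj]; ring⟩
      have h16 : 16 ∣ Nat.card G := h16'.trans (card_subgroup_dvd_card N)
      rw [hG] at h16
      norm_num at h16
    · exact h2
  have hmem : ∀ a, a ∈ O a := fun a => by simp [O]
  have hone : ∀ a : (S : Subgroup G), a ≠ 1 → 3 ≤ (O a).card ∧ 1 ∉ O a := fun a ha => by
    refine ⟨?_, fun h1 => ?_⟩
    · by_contra hlt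
      have h1 : (O a).card = 1 := by have := hodd a; omega
      obtain ⟨z, hz⟩ := Finset.card_eq_one.1 h1
      refine ha (Subtype.ext (no_fixed hG S (comm_exp2 hexp) a.2 fun n hn => ?_))
      have h2 : (⟨n, hn⟩ : N) • a ∈ O a := by simp [O]
      have h3 := hmem a
      rw [hz, Finset.mem_singleton] at h2 h3
      exact congrArg Subtype.val (h2.trans h3.symm)
    · simp only [O, Finset.mem_filter, Finset.mem_univ, true_and] at h1
      obtain ⟨n, hn⟩ := h1
      have h2 := congrArg Subtype.val hn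
      change (n : G) * a * (n : G)⁻¹ = 1 at h2
      exact ha (Subtype.ext (conj_eq_one_iff.1 h2))
  have hdisj : ∀ a b, b ∉ O a → Disjoint (O a) (O b) := fun a b hb => by
    rw [Finset.disjoint_left]
    intro z hza hzb
    simp only [O, Finset.mem_filter, Finset.mem_univ, true_and] at hb hza hzb
    exact hb (by rw [← MulAction.orbit_eq_iff.2 hza, MulAction.orbit_eq_iff.2 hzb]; exact MulAction.mem_orbit_self b)
  have hbound : ∀ F : Finset (S : Subgroup G), 1 ∉ F → F.card ≤ 7 := fun F hF => by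
    have h := Finset.card_le_card (show F ⊆ Finset.univ.erase 1 from fun z hz =>
      Finset.mem_erase.2 ⟨fun e => hF (e ▸ hz), Finset.mem_univ z⟩)
    rw [Finset.card_erase_of_mem (Finset.mem_univ _), Finset.card_univ, ← Nat.card_eq_fintype_card,
      card_sylow_two hG S] at h
    exact h
  have htrans : ∀ a b : (S : Subgroup G), a ≠ 1 → b ≠ 1 → b ∈ O a := by
    intro a b ha hb
    by_contra hab
    obtain ⟨ha3, ha1⟩ := hone a ha
    obtain ⟨hb3, hb1⟩ := hone b hb
    have hu1 : (1 : (S : Subgroup G)) ∉ O a ∪ O b := by simp [ha1, hb1]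
    have hcu := Finset.card_union_of_disjoint (hdisj a b hab)
    have h7 := hbound _ hu1
    obtain ⟨c, hc, hcab⟩ : ∃ c : (S : Subgroup G), c ≠ 1 ∧ c ∉ O a ∪ O b := by
      by_contra hcon
      push Not at hcon
      have h := Finset.card_le_card (show Finset.univ.erase (1 : (S : Subgroup G)) ⊆ O a ∪ O b from
        fun z hz => hcon z (Finset.mem_erase.1 hz).1)
      rw [Finset.card_erase_of_mem (Finset.mem_univ _), Finset.card_univ, ← Nat.card_eq_fintype_card,
        card_sylow_two hG S] at h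
      have := hodd a; have := hodd b
      omega
    obtain ⟨hc3, hc1⟩ := hone c hc
    rw [Finset.mem_union, not_or] at hcab
    have hd : Disjoint (O a ∪ O b) (O c) := Finset.disjoint_union_left.2 ⟨hdisj a c hcab.1, hdisj b c hcab.2⟩
    have h9 := hbound (O a ∪ O b ∪ O c) (by simp [ha1, hb1, hc1])
    rw [Finset.card_union_of_disjoint hd, hcu] at h9
    omega
  refine ⟨?_, fun a ha ha1 b hb hb1 => ?_⟩
  · obtain ⟨a, ha⟩ : ∃ a : (S : Subgroup G), a ≠ 1 := by
      by_contra hcon
      push Not at hcon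
      haveI : Subsingleton (S : Subgroup G) := ⟨fun x y => (hcon x).trans (hcon y).symm⟩
      have := card_sylow_two hG S
      rw [Nat.card_unique] at this
      norm_num at this
    have h7 : (O a).card = 7 := by
      refine le_antisymm (hbound _ (hone a ha).2) ?_
      have h := Finset.card_le_card (show Finset.univ.erase (1 : (S : Subgroup G)) ⊆ O a from
        fun z hz => htrans a z ha (Finset.mem_erase.1 hz).1)
      rw [Finset.card_erase_of_mem (Finset.mem_univ _), Finset.card_univ, ← Nat.card_eq_fintype_card,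
        card_sylow_two hG S] at h
      exact h
    exact ⟨_, by rw [← hdvd a, ← hcardO, h7]⟩
  · have h := htrans ⟨a, ha⟩ ⟨b, hb⟩ (fun e => ha1 (congrArg Subtype.val e))
      fun e => hb1 (congrArg Subtype.val e)
    simp only [O, Finset.mem_filter, Finset.mem_univ, true_and] at h
    obtain ⟨n, hn⟩ := h
    exact ⟨n, n.2, congrArg Subtype.val hn⟩

theorem centralizer_le_sup (S : Sylow 2 G) (hexp : ∀ x ∈ (S : Subgroup G), x * x = 1) {a : G}
    (ha : a ∈ (S : Subgroup G)) (hsol : Group.IsSolvable (centralizer ({a} : Set G))) :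
    centralizer ({a} : Set G) ≤
      Cfsg.centralizerPPrimeCore 2 a ⊔ normalizer ((S : Subgroup G) : Set G) := by
  haveI : Fact (Nat.Prime 2) := ⟨Nat.prime_two⟩
  haveI := hsol
  set C := centralizer ({a} : Set G)
  have hSC : (S : Subgroup G) ≤ C := fun x hx =>
    mem_centralizer_singleton_iff.2 (comm_exp2 hexp x hx a ha)
  let SC : Sylow 2 C := S.subtype hSC
  set O := Cfsg.pPrimeCore 2 C
  set π := QuotientGroup.mk' O
  have hπ := QuotientGroup.mk'_surjective O
  let SQ : Sylow 2 (C ⧸ O) := SC.mapSurjective hπ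
  have hQab : (SQ : Subgroup (C ⧸ O)) ≤ centralizer ((SQ : Subgroup (C ⧸ O)) : Set (C ⧸ O)) := by
    rintro _ ⟨x, hx, rfl⟩
    refine mem_centralizer_iff.2 ?_
    rintro _ ⟨y, hy, rfl⟩
    rw [← map_mul, ← map_mul]
    exact congrArg π (Subtype.ext (comm_exp2 hexp (y : G) (mem_subgroupOf.1 hy) x (mem_subgroupOf.1 hx)))
  have hcore : Cfsg.pCore 2 (C ⧸ O) ≤ SQ := PLocal.Cores.pCore_le_sylow SQ
  have heq : (SQ : Subgroup (C ⧸ O)) = Cfsg.pCore 2 (C ⧸ O) := by
    refine le_antisymm ?_ hcore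
    refine le_trans (hQab.trans (centralizer_le hcore)) ?_
    exact PLocal.PSolvable.centralizer_pCore_le PLocal.Cores.pPrimeCore_quotient_pPrimeCore
      (PLocal.SolvableSeparable.isPSolvable_of_isSolvable 2 _)
  set T := (SQ : Subgroup (C ⧸ O)).comap π with hT
  haveI : T.Normal := by rw [hT, heq]; exact Normal.comap inferInstance π
  have hTeq : T = (SC : Subgroup C) ⊔ O := by
    rw [hT, Sylow.coe_mapSurjective, comap_map_eq, QuotientGroup.ker_mk']
  have hfr := Sylow.normalizer_sup_eq_top' (N := T) SC (hTeq ▸ le_sup_left)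
  intro x hx
  have h : (⟨x, hx⟩ : C) ∈ normalizer ((SC : Subgroup C) : Set C) ⊔ O := by
    have hle : normalizer ((SC : Subgroup C) : Set C) ⊔ T ≤
        normalizer ((SC : Subgroup C) : Set C) ⊔ O := by
      rw [hTeq]
      exact sup_le le_sup_left (sup_le (le_normalizer.trans le_sup_left) le_sup_right)
    exact hle (hfr ▸ mem_top _)
  have h2 := mem_map_of_mem C.subtype h
  rw [Subgroup.map_sup] at h2
  refine (sup_le ?_ ?_ : _ ≤ Cfsg.centralizerPPrimeCore 2 a ⊔ normalizer ((S : Subgroup G) : Set G)) h2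
  · refine le_trans ?_ le_sup_right
    refine (le_normalizer_map C.subtype).trans (le_of_eq ?_)
    show normalizer (((SC : Subgroup C).map C.subtype : Subgroup G) : Set G) = _
    rw [show (SC : Subgroup C) = (S : Subgroup G).subgroupOf C from rfl, map_subgroupOf_eq_of_le hSC]
  · exact le_sup_left

theorem mem_normalizer_of_map_le {H : Subgroup G} {g : G}
    (h : H.map (MulAut.conj g).toMonoidHom ≤ H) : g ∈ normalizer (H : Set G) := by
  have heq : H.map (MulAut.conj g).toMonoidHom = H :=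
    eq_of_le_of_card_ge h (card_map_of_injective (MulAut.conj g).injective).ge
  rw [mem_normalizer_iff]
  intro x
  conv_rhs => rw [← heq]
  exact (mem_map_iff_mem (f := (MulAut.conj g).toMonoidHom) (MulAut.conj g).injective).symm

/-- A four-group or more of a normalizing elementary abelian `2`-group centralizes a group of prime order. -/
theorem four_dvd_inf_centralizer (S : Subgroup G) (h8 : Nat.card S = 8) (hexp : ∀ x ∈ S, x * x = 1)
    {q : ℕ} (hq : q.Prime) {Q : Subgroup G} (hQ : Nat.card Q = q) (hSQ : S ≤ normalizer (Q : Set G)) :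
    4 ∣ Nat.card ↥(S ⊓ centralizer (Q : Set G)) := by
  haveI := Fact.mk hq
  haveI : IsCyclic Q := isCyclic_of_prime_card hQ
  haveI : Fact (Nat.card Q).Prime := ⟨hQ ▸ hq⟩
  haveI : IsCyclic (MulAut Q) := isCyclic_of_surjective (IsCyclic.mulAutMulEquiv Q).symm.toMonoidHom
    (IsCyclic.mulAutMulEquiv Q).symm.surjective
  let φ : S →* MulAut Q := Q.normalizerMonoidHom.comp (inclusion hSQ)
  have hr : Nat.card φ.range ∣ 2 := by
    rw [← IsCyclic.exponent_eq_card]
    refine Monoid.exponent_dvd_of_forall_pow_eq_one ?_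
    rintro ⟨_, z, rfl⟩
    exact Subtype.ext (by
      show φ z ^ 2 = 1
      rw [← map_pow, show z ^ 2 = 1 from Subtype.ext (by rw [sq]; exact hexp z z.2), map_one])
  have hk : φ.ker.map S.subtype = S ⊓ centralizer (Q : Set G) := by
    ext z
    have hker : ∀ w : S, w ∈ φ.ker ↔ (w : G) ∈ centralizer (Q : Set G) := fun w => by
      show inclusion hSQ w ∈ Q.normalizerMonoidHom.ker ↔ _
      rw [normalizerMonoidHom_ker]
      rfl
    constructor
    · rintro ⟨w, hw, rfl⟩
      exact ⟨w.2, (hker w).1 hw⟩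
    · rintro ⟨h1, h2⟩
      exact ⟨⟨z, h1⟩, (hker _).2 h2, rfl⟩
  rw [← hk, card_subtype]
  have := φ.ker.card_mul_index
  rw [index_ker, h8] at this
  obtain ⟨d, hd⟩ := hr
  exact ⟨d, by
    have hpos : 0 < Nat.card φ.range := Nat.card_pos
    refine Nat.eq_of_mul_eq_mul_right hpos ?_
    rw [this, mul_assoc, mul_comm d, ← hd]; norm_num⟩

theorem card_of_controls [IsSimpleGroup G] (hG : Nat.card G = 175560) (S : Sylow 2 G)
    (hexp : ∀ x ∈ (S : Subgroup G), x * x = 1) (M : Subgroup G) (hne : M ≠ ⊤)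
    (hN : normalizer ((S : Subgroup G) : Set G) ≤ M)
    (hC : ∀ a ∈ (S : Subgroup G), a ≠ 1 → centralizer ({a} : Set G) ≤ M) :
    Nat.card M = 5320 ∨ Nat.card M = 3080 ∨ Nat.card M = 840 := by
  classical
  haveI : Fact (Nat.Prime 2) := ⟨Nat.prime_two⟩
  obtain ⟨h7, htr⟩ := transitive hG S hexp
  have hSM : (S : Subgroup G) ≤ M := le_normalizer.trans hN
  have h56 : 56 ∣ Nat.card M := (show Nat.Coprime 8 7 by norm_num).mul_dvd_of_dvd_of_dvd
    (card_sylow_two hG S ▸ card_dvd_of_le hSM) (h7.trans (card_dvd_of_le hN))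
  have hconj : ∀ t ∈ M, orderOf t = 2 → ∃ m ∈ M, m * t * m⁻¹ ∈ (S : Subgroup G) := by
    intro t ht hto
    have hp : IsPGroup 2 (zpowers (⟨t, ht⟩ : M)) :=
      IsPGroup.of_card (n := 1) (by rw [Nat.card_zpowers, orderOf_mk, hto, pow_one])
    obtain ⟨Q, hQ⟩ := hp.exists_le_sylow
    obtain ⟨m, hm⟩ := MulAction.exists_smul_eq M Q (S.subtype hSM)
    refine ⟨m, m.2, ?_⟩
    have h1 : m * (⟨t, ht⟩ : M) * m⁻¹ ∈ ((m • Q : Sylow 2 M) : Subgroup M) := by
      rw [Sylow.coe_subgroup_smul]
      exact ⟨⟨t, ht⟩, hQ (mem_zpowers _), rfl⟩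
    rw [hm] at h1
    exact mem_subgroupOf.1 h1
  have hse : Cfsg.IsStronglyEmbedded M := by
    refine Involutions.StronglyEmbedded.of_conj hne
      (even_iff_two_dvd.2 ((by norm_num : 2 ∣ 56).trans h56)) fun t ht hto g hg => ?_
    obtain ⟨m₁, hm₁, ha⟩ := hconj t ht hto
    obtain ⟨m₂, hm₂, hb⟩ := hconj _ hg (by rw [Involutions.Basic.orderOf_conj, hto])
    have ht1 : t ≠ 1 := fun e => by rw [e, orderOf_one] at hto; norm_num at hto
    have hb1 : m₂ * (g * t * g⁻¹) * m₂⁻¹ ≠ 1 := fun e => ht1 (conj_eq_one_iff.1 (conj_eq_one_iff.1 e))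
    obtain ⟨n, hn, hnab⟩ := htr _ ha (fun e => ht1 (conj_eq_one_iff.1 e)) _ hb hb1
    have hk : m₁ * ((n * m₁)⁻¹ * (m₂ * g)) * m₁⁻¹ ∈ centralizer ({m₁ * t * m₁⁻¹} : Set G) := by
      refine mem_centralizer_singleton_iff.2 ?_
      calc m₁ * ((n * m₁)⁻¹ * (m₂ * g)) * m₁⁻¹ * (m₁ * t * m₁⁻¹)
          = n⁻¹ * (m₂ * (g * t * g⁻¹) * m₂⁻¹) * (m₂ * g) * m₁⁻¹ := by group
        _ = n⁻¹ * (n * (m₁ * t * m₁⁻¹) * n⁻¹) * (m₂ * g) * m₁⁻¹ := by rw [hnab]
        _ = m₁ * t * m₁⁻¹ * (m₁ * ((n * m₁)⁻¹ * (m₂ * g)) * m₁⁻¹) := by group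
    have hkM := hC _ ha (fun e => ht1 (conj_eq_one_iff.1 e)) hk
    have : g = m₂⁻¹ * n * m₁ * (m₁⁻¹ * (m₁ * ((n * m₁)⁻¹ * (m₂ * g)) * m₁⁻¹) * m₁) := by group
    rw [this]
    exact mul_mem (mul_mem (mul_mem (inv_mem hm₂) (hN hn)) hm₁) (mul_mem (mul_mem (inv_mem hm₁) hkM) hm₁)
  haveI := Fintype.ofFinite (G ⧸ M)
  haveI := Fintype.ofFinite (S : Subgroup G)
  haveI := Fintype.ofFinite (Quotient (MulAction.orbitRel (S : Subgroup G) (G ⧸ M)))
  have hb := MulAction.sum_card_fixedBy_eq_card_orbits_mul_card_group (S : Subgroup G) (G ⧸ M)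
  rw [← Finset.add_sum_erase _ _ (Finset.mem_univ (1 : (S : Subgroup G)))] at hb
  have hs : ∀ s ∈ Finset.univ.erase (1 : (S : Subgroup G)),
      Fintype.card (MulAction.fixedBy (G ⧸ M) s) = 1 := fun s hs => by
    have hso : orderOf (s : G) = 2 := orderOf_eq_prime (by rw [sq]; exact hexp s s.2)
      (fun e => (Finset.mem_erase.1 hs).1 (Subtype.ext e))
    obtain ⟨c, hc, hu⟩ := Involutions.StronglyEmbedded.existsUnique_fixed hse hso
    exact Fintype.card_eq_one_iff.2 ⟨⟨c, hc⟩, fun d => Subtype.ext (hu d d.2)⟩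
  have h1card : Fintype.card (MulAction.fixedBy (G ⧸ M) (1 : (S : Subgroup G))) = M.index := by
    rw [index_eq_card, Nat.card_eq_fintype_card]
    exact Fintype.card_congr (Equiv.subtypeUnivEquiv fun c => one_smul _ c)
  rw [Finset.sum_congr rfl hs, Finset.sum_const, Finset.card_erase_of_mem (Finset.mem_univ _),
    Finset.card_univ, h1card, ← Nat.card_eq_fintype_card, card_sylow_two hG S, smul_eq_mul, mul_one] at hb
  have hprod := M.card_mul_index
  obtain ⟨r, hr⟩ := h56
  rw [hr, hG, mul_assoc] at hprod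
  have hrv : r * M.index = 3135 := Nat.eq_of_mul_eq_mul_left (by norm_num : 0 < 56) hprod
  have hv1 : M.index ≠ 1 := fun e => hne (index_eq_one.1 e)
  have key : ∀ d ∈ Nat.divisors 3135, d % 8 = 1 → d ≠ 1 → d = 33 ∨ d = 57 ∨ d = 209 := by decide +kernel
  rcases key M.index (Nat.mem_divisors.2 ⟨Dvd.intro_left r hrv, by norm_num⟩) (by omega) hv1 with h | h | h <;>
    rw [h] at hrv <;> omega

theorem exists_insoluble [IsSimpleGroup G] (hG : Nat.card G = 175560) (S : Sylow 2 G)
    (hexp : ∀ x ∈ (S : Subgroup G), x * x = 1) :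
    ∃ a ∈ (S : Subgroup G), a ≠ 1 ∧ ¬ Group.IsSolvable (centralizer ({a} : Set G)) := by
  classical
  by_contra hcon
  push Not at hcon
  haveI : Fact (Nat.Prime 2) := ⟨Nat.prime_two⟩
  have h8 := card_sylow_two hG S
  have hcomm := comm_exp2 hexp
  have hexp' : ∀ a ∈ (S : Subgroup G), a ^ 2 = 1 := fun a ha => by rw [sq]; exact hexp a ha
  obtain ⟨⟨hθC, hθp, hθinv, hbal⟩, hθsolv⟩ := Cfsg.Agent.S1279.result 2 (S : Subgroup G)
    (PLocal.ThompsonSubgroup.isElementaryAbelian_iff.mpr ⟨hcomm, hexp'⟩) (by rw [h8]; norm_num) hcon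
  obtain ⟨hWodd, -⟩ := Cfsg.Agent.S0217.result (p := 2) (S : Subgroup G) hcomm hexp' (by rw [h8]; norm_num)
    (fun a => Cfsg.centralizerPPrimeCore 2 a) hθC hθp hθinv hθsolv hbal
  set W := ⨆ a : {a : G // a ∈ (S : Subgroup G) ∧ a ≠ 1}, Cfsg.centralizerPPrimeCore 2 (a : G) with hW
  have hWle : ∀ a, a ∈ (S : Subgroup G) → a ≠ 1 → Cfsg.centralizerPPrimeCore 2 a ≤ W := fun a ha ha1 =>
    le_iSup (fun b : {a : G // a ∈ (S : Subgroup G) ∧ a ≠ 1} => Cfsg.centralizerPPrimeCore 2 (b : G))
      ⟨a, ha, ha1⟩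
  have hNW : normalizer ((S : Subgroup G) : Set G) ≤ normalizer (W : Set G) := fun g hg => by
    refine mem_normalizer_of_map_le ?_
    rw [hW, Subgroup.map_iSup]
    refine iSup_le ?_
    rintro ⟨a, ha, ha1⟩
    rw [← SolvableSignalizer.centralizerPPrimeCore_conj]
    exact hWle _ ((mem_normalizer_iff.1 hg a).1 ha) (fun e => ha1 (conj_eq_one_iff.1 e))
  obtain ⟨h7, htr⟩ := transitive hG S hexp
  have hCle : ∀ M : Subgroup G, W ≤ M → normalizer ((S : Subgroup G) : Set G) ≤ M →
      ∀ a ∈ (S : Subgroup G), a ≠ 1 → centralizer ({a} : Set G) ≤ M := fun M hWM hM a ha ha1 =>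
    (centralizer_le_sup S hexp ha (hcon a ha ha1)).trans (sup_le ((hWle a ha ha1).trans hWM) hM)
  have hbot : ∀ H : Subgroup G, H.Normal → H ≠ ⊥ → H = ⊤ := fun H hH h =>
    hH.eq_bot_or_eq_top.resolve_left h
  by_cases hW1 : W = ⊥
  · set M := normalizer ((S : Subgroup G) : Set G) with hM
    have hne : M ≠ ⊤ := fun e => by
      rw [hM, normalizer_eq_top_iff] at e
      rcases e.eq_bot_or_eq_top with h | h
      · rw [h, card_bot] at h8; norm_num at h8
      · rw [h, card_top, hG] at h8; norm_num at h8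
    have hcard := card_of_controls hG S hexp M hne le_rfl (hCle M (hW1 ▸ bot_le) le_rfl)
    haveI : Fact (Nat.Prime 5) := ⟨by norm_num⟩
    obtain ⟨⟨z, hz⟩, hzo⟩ := exists_prime_orderOf_dvd_card' (G := M) 5
      (by rcases hcard with h | h | h <;> rw [h] <;> norm_num)
    rw [orderOf_mk] at hzo
    set Z := zpowers z
    letI : MulAction Z (S : Subgroup G) :=
      MulAction.compHom _ ((S : Subgroup G).normalizerMonoidHom.comp (inclusion (zpowers_le.2 hz)))
    have hsmul : ∀ (k : Z) (x : (S : Subgroup G)), ((k • x : (S : Subgroup G)) : G) = k * x * (k : G)⁻¹ :=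
      fun k x => rfl
    have hZc : Nat.card Z = 5 := by rw [Nat.card_zpowers, hzo]
    have hmod := (IsPGroup.of_card (n := 1) (show Nat.card Z = 5 ^ 1 by rw [hZc, pow_one])).card_modEq_card_fixedPoints
      (S : Subgroup G)
    let F := (S : Subgroup G) ⊓ centralizer ({z} : Set G)
    have hF : Nat.card (MulAction.fixedPoints Z (S : Subgroup G)) = Nat.card F := by
      refine Nat.card_congr
        { toFun := fun x => ⟨(x.1 : G), x.1.2, mem_centralizer_singleton_iff.2 ?_⟩
          invFun := fun y => ⟨⟨(y : G), y.2.1⟩, fun k => Subtype.ext ?_⟩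
          left_inv := fun _ => rfl
          right_inv := fun _ => rfl }
      · have h := congrArg Subtype.val (x.2 ⟨z, mem_zpowers z⟩)
        change z * (x.1 : G) * z⁻¹ = x.1 at h
        exact (mul_inv_eq_iff_eq_mul.1 h).symm
      · rw [hsmul]
        obtain ⟨i, hi⟩ := mem_zpowers_iff.1 k.2
        have hc : Commute (k : G) y := hi ▸
          (show Commute z y from (mem_centralizer_singleton_iff.1 y.2.2).symm).zpow_left i
        show (k : G) * y * (k : G)⁻¹ = y
        rw [hc.eq, mul_inv_cancel_right]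
    have hFd : Nat.card F ∣ 8 := h8 ▸ card_dvd_of_le inf_le_left
    rw [hF, h8] at hmod
    have hF8 : Nat.card F = 8 := by
      have key : ∀ d ∈ Nat.divisors 8, 8 % 5 = d % 5 → d = 8 := by decide +kernel
      exact key _ (Nat.mem_divisors.2 ⟨hFd, by norm_num⟩) hmod
    have hle : (S : Subgroup G) ≤ centralizer (Z : Set G) := by
      have hFS : F = (S : Subgroup G) := eq_of_le_of_card_ge inf_le_left (by rw [h8, hF8])
      show _ ≤ centralizer ((zpowers z : Subgroup G) : Set G)
      rw [zpowers_eq_closure, centralizer_closure]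
      exact hFS ▸ inf_le_right
    have := (facts hG (p := 5) (by simp [primes]) hZc).2.1 (h8 ▸ card_dvd_of_le hle)
    norm_num at this
  · set M := normalizer (W : Set G) with hM
    have hWodd' : Odd (Nat.card W) :=
      Nat.not_even_iff_odd.1 fun h => hWodd (even_iff_two_dvd.1 h)
    have hne : M ≠ ⊤ := fun e => by
      rw [hM, normalizer_eq_top_iff] at e
      have := hbot W e hW1
      rw [this, card_top, hG] at hWodd'
      norm_num at hWodd'
    have hcard := card_of_controls hG S hexp M hne hNW (hCle M le_normalizer hNW)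
    have hcop : (Nat.card (S : Subgroup G)).Coprime (Nat.card W) := by
      rw [h8]; exact (Nat.coprime_two_left.2 hWodd').pow_left 3
    have hWG : Nat.card W ∣ 175560 := hG ▸ card_subgroup_dvd_card W
    have hW21945 : Nat.card W ∣ 21945 :=
      (h8 ▸ hcop).symm.dvd_of_dvd_mul_left (show Nat.card W ∣ 8 * 21945 from hWG)
    have hSW : (S : Subgroup G) ≤ normalizer (W : Set G) := le_normalizer.trans hNW
    have hp34 : ∀ q : ℕ, q.Prime → q ∣ Nat.card W → q = 3 ∨ q = 11 := fun q hq hqW => by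
      haveI := Fact.mk hq
      have hqp : q ∈ primes := by
        have h := hqW.trans hW21945
        rw [show 21945 = 3 * 5 * 7 * 11 * 19 from rfl, hq.dvd_mul, hq.dvd_mul, hq.dvd_mul, hq.dvd_mul,
          Nat.prime_dvd_prime_iff_eq hq (by norm_num), Nat.prime_dvd_prime_iff_eq hq (by norm_num),
          Nat.prime_dvd_prime_iff_eq hq (by norm_num), Nat.prime_dvd_prime_iff_eq hq (by norm_num),
          Nat.prime_dvd_prime_iff_eq hq (by norm_num)] at h
        simp only [primes, List.mem_cons, List.not_mem_nil, or_false]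
        omega
      obtain ⟨P, hP⟩ := Coprime.exists_invariant_sylow q hSW hcop
        (Or.inl (Coprime.isSolvable_of_isPGroup S.2))
      have hPc : Nat.card ((P : Subgroup W).map W.subtype) = q := by
        rw [card_subtype]
        refine Forms.DicksonShapes.sylow_card hqW (fun h => ?_) P
        have := h.trans hW21945
        simp only [primes, List.mem_cons, List.not_mem_nil, or_false] at hqp
        rcases hqp with rfl | rfl | rfl | rfl | rfl <;> norm_num at this
      exact (facts hG hqp hPc).1 ((four_dvd_inf_centralizer _ h8 hexp hq hPc hP).trans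
        (card_dvd_of_le inf_le_right))
    have hWM : Nat.card W ∣ Nat.card M := card_dvd_of_le le_normalizer
    have hW1' : Nat.card W ≠ 1 := fun e => hW1 (card_eq_one.1 e)
    have hWq : Nat.card M = 840 ∧ Nat.card W = 3 ∨ Nat.card M = 3080 ∧ Nat.card W = 11 := by
      have key : ∀ d ∈ Nat.divisors 21945, ¬ 5 ∣ d → ¬ 7 ∣ d → ¬ 19 ∣ d → d ≠ 1 →
          (¬ d ∣ 5320) ∧ (d ∣ 3080 → d = 11) ∧ (d ∣ 840 → d = 3) := by decide +kernel
      obtain ⟨k1, k2, k3⟩ := key _ (Nat.mem_divisors.2 ⟨hW21945, by norm_num⟩)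
        (fun h => by have := hp34 5 (by norm_num) h; omega)
        (fun h => by have := hp34 7 (by norm_num) h; omega)
        (fun h => by have := hp34 19 (by norm_num) h; omega) hW1'
      rcases hcard with h | h | h <;> rw [h] at hWM
      exacts [absurd hWM k1, Or.inr ⟨h, k2 hWM⟩, Or.inl ⟨h, k3 hWM⟩]
    have hq : (Nat.card W).Prime := by rcases hWq with ⟨-, h⟩ | ⟨-, h⟩ <;> rw [h] <;> norm_num
    have h4 := four_dvd_inf_centralizer _ h8 hexp hq rfl hSW
    obtain ⟨a, ⟨haS, haC⟩, ha1⟩ :=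
      ((S : Subgroup G) ⊓ centralizer (W : Set G)).bot_or_exists_ne_one.resolve_left fun h => by
        rw [h, card_bot] at h4; norm_num at h4
    have hall : (S : Subgroup G) ≤ centralizer (W : Set G) := fun b hb => by
      by_cases hb1 : b = 1
      · exact hb1 ▸ one_mem _
      obtain ⟨n, hn, rfl⟩ := htr a haS ha1 b hb hb1
      refine mem_centralizer_iff.2 fun w hw => ?_
      have hw' : n⁻¹ * w * n ∈ W := by simpa using (mem_normalizer_iff.1 (inv_mem (hNW hn)) w).1 hw
      have := mem_centralizer_iff.1 haC _ hw'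
      calc w * (n * a * n⁻¹) = n * (n⁻¹ * w * n * a) * n⁻¹ := by group
        _ = n * (a * (n⁻¹ * w * n)) * n⁻¹ := by rw [this]
        _ = n * a * n⁻¹ * w := by group
    have hd : 8 ∣ Nat.card (centralizer (W : Set G)) := h8 ▸ card_dvd_of_le hall
    rcases hWq with ⟨-, h⟩ | ⟨hM3, h⟩
    · have := (facts hG (p := 3) (by simp [primes]) h).2.1 hd
      norm_num at this
    · have := (facts hG (p := 11) (by simp [primes]) h).2.2.2 rfl
      rw [← hM, hM3] at this
      norm_num at this

end Cfsg.Agent.J1FromOrder
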