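import Cfsg.Agent.Lib.J1FromOrder.Section
import Cfsg.Agent.Lib.J1FromOrder.Dihedral
import Cfsg.Agent.S0494

/-! The insoluble centralizer of an involution is `Z₂ × A₅`. -/

set_option autoImplicit false
set_option linter.style.haveILetI false

namespace Cfsg.Agent.J1FromOrder

open Subgroup
open scoped Pointwise

variable {G : Type*} [Group G] [Finite G]

/-- Two commuting involutions make the order divisible by four. -/
theorem four_dvd_of_commute {H : Subgroup G} {x y : G} (hx : x ∈ H) (hy : y ∈ H) (hxo : orderOf x = 2)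
    (hyo : orderOf y = 2) (hne : x ≠ y) (hc : Commute x y) : 4 ∣ Nat.card H := by
  have hle : zpowers y ≤ normalizer ((zpowers x : Subgroup G) : Set G) := by
    refine zpowers_le.2 (centralizer_le_normalizer _ ?_)
    rw [zpowers_eq_closure, centralizer_closure]
    exact mem_centralizer_singleton_iff.2 hc.eq.symm
  have hdisj : Disjoint (zpowers x) (zpowers y) := by
    rw [disjoint_iff, eq_bot_iff]
    rintro w ⟨hw1, hw2⟩
    rw [mem_bot]
    by_contra hw
    have hwo : orderOf w = 2 := by
      refine orderOf_eq_prime ?_ hw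
      obtain ⟨k, rfl⟩ := mem_zpowers_iff.1 hw1
      have h2 : x ^ 2 = 1 := hxo ▸ pow_orderOf_eq_one x
      rw [← zpow_natCast, ← zpow_mul, mul_comm, zpow_mul, zpow_natCast, h2, one_zpow]
    have h1 := Involutions.OrderFormula.eq_middle hwo hw1
    have h2 := Involutions.OrderFormula.eq_middle hwo hw2
    rw [hxo, show 2 / 2 = 1 from rfl, pow_one] at h1
    rw [hyo, show 2 / 2 = 1 from rfl, pow_one] at h2
    exact hne (h1.symm.trans h2)
  have h := SylowAb.card_sup hle hdisj
  rw [Nat.card_zpowers, Nat.card_zpowers, hxo, hyo] at h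
  exact h.symm.dvd.trans (card_dvd_of_le (sup_le (zpowers_le.2 hx) (zpowers_le.2 hy)))

variable {t : G}

/-- The embedding of a subgroup of a centralizer. -/
def embed (P : Subgroup (centralizer ({t} : Set G))) : P →* G :=
  (centralizer ({t} : Set G)).subtype.comp P.subtype

theorem embed_injective (P : Subgroup (centralizer ({t} : Set G))) : Function.Injective (embed P) :=
  (centralizer ({t} : Set G)).subtype_injective.comp P.subtype_injective

theorem embed_commute (P : Subgroup (centralizer ({t} : Set G))) (p : P) :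
    Commute (embed P p) t :=
  mem_centralizer_singleton_iff.1 (p : centralizer ({t} : Set G)).2

theorem embed_ne {P : Subgroup (centralizer ({t} : Set G))}
    (hz : (⟨t, mem_centralizer_singleton_iff.2 rfl⟩ : centralizer ({t} : Set G)) ∉ P) (p : P) :
    embed P p ≠ t := fun h => hz (by
  have : (p : centralizer ({t} : Set G)) = ⟨t, mem_centralizer_singleton_iff.2 rfl⟩ := Subtype.ext h
  exact this ▸ p.2)

theorem mem_centralizer_map (P : Subgroup (centralizer ({t} : Set G))) (A : Subgroup P) :
    t ∈ centralizer ((A.map (embed P) : Subgroup G) : Set G) := by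
  refine mem_centralizer_iff.2 ?_
  rintro _ ⟨a, -, rfl⟩
  exact (embed_commute P a).eq

theorem two_dvd_centralizer (hto : orderOf t = 2) (P : Subgroup (centralizer ({t} : Set G)))
    (A : Subgroup P) : 2 ∣ Nat.card (centralizer ((A.map (embed P) : Subgroup G) : Set G)) := by
  have h := orderOf_dvd_natCard (⟨t, mem_centralizer_map P A⟩ :
    centralizer ((A.map (embed P) : Subgroup G) : Set G))
  rwa [orderOf_mk, hto] at h

theorem card_sylow_of {H : Type*} [Group H] [Finite H] {n p : ℕ} [Fact p.Prime] (hH : Nat.card H = n)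
    (h1 : p ∣ n) (h2 : ¬ p ^ 2 ∣ n) (R : Sylow p H) : Nat.card (R : Subgroup H) = p :=
  Forms.DicksonShapes.sylow_card (hH ▸ h1) (hH ▸ h2) R

theorem not_4620 [IsSimpleGroup G] (hG : Nat.card G = 175560) (hto : orderOf t = 2)
    (P : Subgroup (centralizer ({t} : Set G)))
    (hz : (⟨t, mem_centralizer_singleton_iff.2 rfl⟩ : centralizer ({t} : Set G)) ∉ P)
    (hP : Nat.card P = 4620) : False := by
  haveI : Fact (Nat.Prime 3) := ⟨by norm_num⟩
  haveI : Fact (Nat.Prime 5) := ⟨by norm_num⟩
  haveI : Fact (Nat.Prime 7) := ⟨by norm_num⟩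
  haveI : Fact (Nat.Prime 11) := ⟨by norm_num⟩
  obtain ⟨A⟩ : Nonempty (Sylow 3 P) := inferInstance
  obtain ⟨B⟩ : Nonempty (Sylow 5 P) := inferInstance
  obtain ⟨D⟩ : Nonempty (Sylow 7 P) := inferInstance
  obtain ⟨E⟩ : Nonempty (Sylow 11 P) := inferInstance
  have hinj := embed_injective P
  have hD : Nat.card (D : Subgroup P) = 7 := card_sylow_of hP (by norm_num) (by norm_num) D
  have h42 := facts_4620 hG
    ((card_map_of_injective hinj).trans (card_sylow_of hP (by norm_num) (by norm_num) A))
    ((card_map_of_injective hinj).trans (card_sylow_of hP (by norm_num) (by norm_num) B))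
    ((card_map_of_injective hinj).trans hD)
    ((card_map_of_injective hinj).trans (card_sylow_of hP (by norm_num) (by norm_num) E))
    (two_dvd_centralizer hto P A) (two_dvd_centralizer hto P B) (two_dvd_centralizer hto P D)
    (two_dvd_centralizer hto P E)
  set N := normalizer ((D : Subgroup P) : Set P)
  have hle : N.map (embed P) ≤ normalizer ((zpowers t : Subgroup G) : Set G) := by
    rintro _ ⟨p, -, rfl⟩
    refine centralizer_le_normalizer _ ?_
    rw [zpowers_eq_closure, centralizer_closure]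
    exact mem_centralizer_singleton_iff.2 (embed_commute P p).eq
  have hdisj : Disjoint (zpowers t) (N.map (embed P)) := by
    rw [disjoint_iff, eq_bot_iff]
    rintro w ⟨hw1, p, -, rfl⟩
    rw [mem_bot]
    by_contra hw
    obtain ⟨k, hk⟩ := mem_zpowers_iff.1 hw1
    have hwo : orderOf (embed P p) = 2 := by
      refine orderOf_eq_prime ?_ hw
      have h2 : t ^ 2 = 1 := hto ▸ pow_orderOf_eq_one t
      rw [← hk, ← zpow_natCast, ← zpow_mul, mul_comm, zpow_mul, zpow_natCast, h2, one_zpow]
    have h1 := Involutions.OrderFormula.eq_middle hwo hw1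
    rw [hto, show 2 / 2 = 1 from rfl, pow_one] at h1
    exact embed_ne hz p h1
  have hcard := SylowAb.card_sup hle hdisj
  rw [Nat.card_zpowers, hto, card_map_of_injective hinj] at hcard
  have hsub : zpowers t ⊔ N.map (embed P) ≤
      normalizer (((D : Subgroup P).map (embed P) : Subgroup G) : Set G) :=
    sup_le (zpowers_le.2 (centralizer_le_normalizer _ (mem_centralizer_map P D)))
      (le_normalizer_map (embed P))
  have h21 : 2 * Nat.card N ∣ 2 * 21 := by
    rw [← hcard, show (2 * 21 : ℕ) = 42 from rfl, ← h42]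
    exact card_dvd_of_le hsub
  have hprod := N.card_mul_index
  have hidx : N.index = Nat.card (Sylow 7 P) := D.card_eq_index_normalizer.symm
  rw [hidx, hP] at hprod
  have hmod : Nat.card (Sylow 7 P) % 7 = 1 := card_sylow_modEq_one 7 P
  have key : ∀ d ∈ Nat.divisors 21, 7 ∣ d → 4620 / d % 7 ≠ 1 := by decide +kernel
  refine key _ (Nat.mem_divisors.2 ⟨Nat.dvd_of_mul_dvd_mul_left (by norm_num) h21, by norm_num⟩)
    (hD ▸ card_dvd_of_le le_normalizer) ?_
  rw [← hprod, Nat.mul_div_cancel_left _ Nat.card_pos]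
  exact hmod

theorem not_660 [IsSimpleGroup G] (hG : Nat.card G = 175560) {S : Sylow 2 G}
    (hexp : ∀ x ∈ (S : Subgroup G), x * x = 1) (hto : orderOf t = 2)
    (P : Subgroup (centralizer ({t} : Set G))) [P.Normal] [IsSimpleGroup P]
    (hz : (⟨t, mem_centralizer_singleton_iff.2 rfl⟩ : centralizer ({t} : Set G)) ∉ P)
    (hP : Nat.card P = 660) : False := by
  haveI : Fact (Nat.Prime 2) := ⟨Nat.prime_two⟩
  obtain ⟨A, B, D, hA, hB, hD, hCA, hor⟩ := data_660 hP
  have hinj := embed_injective P
  have hinv : ∀ (Q : Subgroup P), 2 ∣ Nat.card (centralizer (Q : Set P)) →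
      4 ∣ Nat.card (centralizer ((Q.map (embed P) : Subgroup G) : Set G)) := by
    intro Q hQ
    obtain ⟨⟨p, hp⟩, hpo⟩ := exists_prime_orderOf_dvd_card' (G := centralizer (Q : Set P)) 2 hQ
    rw [orderOf_mk] at hpo
    refine four_dvd_of_commute (mem_centralizer_map P Q) ?_ hto
      ((orderOf_injective _ hinj p).trans hpo) (embed_ne hz p).symm (embed_commute P p).symm
    refine mem_centralizer_iff.2 ?_
    rintro _ ⟨q, hq, rfl⟩
    rw [← map_mul, ← map_mul, mem_centralizer_iff.1 hp q hq]
  set z : ↥(centralizer ({t} : Set G)) := ⟨t, mem_centralizer_singleton_iff.2 rfl⟩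
  have hzo : orderOf z = 2 := (Subgroup.orderOf_coe z).symm.trans hto
  have hzn : (zpowers z).Normal := ⟨fun w hw g => by
    obtain ⟨k, rfl⟩ := mem_zpowers_iff.1 hw
    have hc : Commute g z := Subtype.ext (mem_centralizer_singleton_iff.1 g.2)
    rw [(hc.zpow_right k).eq, mul_inv_cancel_right]
    exact zpow_mem (mem_zpowers z) k⟩
  set T := P ⊔ zpowers z
  have hT : Nat.card T = 1320 := by
    have hdisj : Disjoint P (zpowers z) := by
      rw [disjoint_iff, eq_bot_iff]
      rintro w ⟨hw2, hw1⟩
      rw [mem_bot]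
      by_contra hw
      have hwo : orderOf w = 2 := by
        refine orderOf_eq_prime ?_ hw
        obtain ⟨k, rfl⟩ := mem_zpowers_iff.1 hw1
        have h2 : z ^ 2 = 1 := hzo ▸ pow_orderOf_eq_one z
        rw [← zpow_natCast, ← zpow_mul, mul_comm, zpow_mul, zpow_natCast, h2, one_zpow]
      have h1 := Involutions.OrderFormula.eq_middle hwo hw1
      rw [hzo, show 2 / 2 = 1 from rfl, pow_one] at h1
      exact hz (h1 ▸ hw2)
    rw [SylowAb.card_sup (by rw [normalizer_eq_top]; exact le_top) hdisj, hP, Nat.card_zpowers, hzo]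
  haveI := hzn
  have hTodd : ¬ 2 ∣ T.index := fun h => by
    have h16 : 16 ∣ Nat.card (centralizer ({t} : Set G)) := by
      rw [← T.card_mul_index, hT]
      obtain ⟨i, hi⟩ := h
      exact ⟨165 * i, by rw [hi]; ring⟩
    have := h16.trans ((card_subgroup_dvd_card (centralizer ({t} : Set G))).trans hG.dvd)
    norm_num at this
  have hA4 : ¬ 4 ∣ Nat.card (centralizer ((A.map (embed P) : Subgroup G) : Set G)) := by
    intro h4
    set CA := centralizer ((A.map (embed P) : Subgroup G) : Set G)
    have hp : IsPGroup 2 (zpowers (⟨t, mem_centralizer_map P A⟩ : CA)) :=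
      IsPGroup.of_card (n := 1) (by rw [Nat.card_zpowers, orderOf_mk, hto, pow_one])
    obtain ⟨R, hR⟩ := hp.exists_le_sylow
    have hR4 : 4 ∣ Nat.card (R : Subgroup CA) := R.pow_dvd_card_of_pow_dvd_card (n := 2) h4
    have hexpR := exp_two_pgroup hexp (R.2.map CA.subtype)
    obtain ⟨u, huR, hu1, hut⟩ : ∃ u ∈ (R : Subgroup CA), (u : G) ≠ 1 ∧ (u : G) ≠ t := by
      by_contra hcon
      push Not at hcon
      have hle : (R : Subgroup CA) ≤ zpowers (⟨t, mem_centralizer_map P A⟩ : CA) := fun u hu => by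
        by_cases h1 : (u : G) = 1
        · rw [show u = 1 from Subtype.ext h1]; exact one_mem _
        · rw [show u = ⟨t, mem_centralizer_map P A⟩ from Subtype.ext (hcon u hu h1)]
          exact mem_zpowers _
      have h := hR4.trans (card_dvd_of_le hle)
      rw [Nat.card_zpowers, orderOf_mk, hto] at h
      norm_num at h
    have hu2 : (u : G) * u = 1 := hexpR _ ⟨u, huR, rfl⟩
    have htu : (u : G) * t = t * u := comm_exp2 hexpR _ ⟨u, huR, rfl⟩ _ ⟨_, hR (mem_zpowers _), rfl⟩
    set uC : ↥(centralizer ({t} : Set G)) := ⟨u, mem_centralizer_singleton_iff.2 htu⟩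
    have huT : uC ∈ T := by
      have ho : orderOf (uC : ↥(centralizer ({t} : Set G)) ⧸ T) ∣ 2 := orderOf_dvd_of_pow_eq_one (by
        rw [← QuotientGroup.mk_pow, show uC ^ 2 = 1 from Subtype.ext (by rw [sq]; exact hu2)]
        rfl)
      have ho' : orderOf (uC : ↥(centralizer ({t} : Set G)) ⧸ T) ∣ T.index := index_eq_card T ▸ orderOf_dvd_natCard _
      have h1 : orderOf (uC : ↥(centralizer ({t} : Set G)) ⧸ T) = 1 := Nat.eq_one_of_dvd_coprimes
        (Nat.prime_two.coprime_iff_not_dvd.2 hTodd) ho ho'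
      exact (QuotientGroup.eq_one_iff uC).1 (orderOf_eq_one_iff.1 h1)
    obtain ⟨p, hp, w, hw, hpw⟩ := mem_sup_of_normal_left.1 huT
    obtain ⟨k, hk, rfl⟩ : ∃ k : ℕ, k < 2 ∧ z ^ k = w := by
      classical
      rw [mem_zpowers_iff_mem_range_orderOf, hzo, Finset.mem_image] at hw
      obtain ⟨k, hk, hkw⟩ := hw
      exact ⟨k, Finset.mem_range.1 hk, hkw⟩
    have hpG : (p : G) * t ^ k = u := by
      have := congrArg Subtype.val hpw
      simpa using this
    have hpc : Commute (p : G) t := mem_centralizer_singleton_iff.1 p.2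
    have ht2 : t ^ k * t ^ k = 1 := by
      rw [← pow_add, show k + k = 2 * k by ring, pow_mul, ← hto, pow_orderOf_eq_one, one_pow]
    have hpu : (p : G) = u * t ^ k := by rw [← hpG, mul_assoc, ht2, mul_one]
    have hpA : (⟨p, hp⟩ : P) ∈ centralizer (A : Set P) := by
      refine mem_centralizer_iff.2 fun q hq => hinj ?_
      rw [map_mul, map_mul]
      show embed P q * (p : G) = (p : G) * embed P q
      rw [hpu]
      have c1 : Commute (embed P q) (u : G) := mem_centralizer_iff.1 u.2 _ ⟨q, hq, rfl⟩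
      exact (c1.mul_right ((embed_commute P q).pow_right k)).eq
    have hp2 : (⟨p, hp⟩ : P) ^ 2 = 1 := hinj (by
      rw [map_pow, map_one]
      show (p : G) ^ 2 = 1
      rw [sq, hpu, show (u : G) * t ^ k * ((u : G) * t ^ k) = u * (t ^ k * u) * t ^ k by group,
        ((show Commute t (u : G) from htu.symm).pow_left k).eq, ← mul_assoc, hu2, one_mul, ht2])
    have hp1 : (⟨p, hp⟩ : P) = 1 := by
      refine orderOf_eq_one_iff.1 (Nat.eq_one_of_dvd_coprimes (show Nat.Coprime 2 11 by norm_num)
        (orderOf_dvd_of_pow_eq_one hp2) ?_)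
      rw [← hCA, ← Subgroup.orderOf_mk _ hpA]
      exact orderOf_dvd_natCard _
    have hp1' : (p : G) = 1 := congrArg (fun q : P => ((q : ↥(centralizer ({t} : Set G))) : G)) hp1
    rw [hp1', one_mul] at hpG
    interval_cases k
    · exact hu1 (hpG.symm.trans (pow_zero t))
    · exact hut (hpG.symm.trans (pow_one t))
  obtain ⟨hNB, hB4, hD4⟩ := facts_660 hG ((card_map_of_injective hinj).trans hA)
    ((card_map_of_injective hinj).trans hB) ((card_map_of_injective hinj).trans hD)
    (two_dvd_centralizer hto P A) hA4 (two_dvd_centralizer hto P B)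
  rcases hor with h | h | h
  · exact hB4 (hinv B h)
  · exact hD4 (hinv D h)
  · set NB := normalizer (B : Set P)
    set CB := centralizer ((B.map (embed P) : Subgroup G) : Set G)
    have hle : NB.map (embed P) ≤ normalizer ((B.map (embed P) : Subgroup G) : Set G) :=
      le_normalizer_map (embed P)
    have hinf : CB ⊓ NB.map (embed P) ≤ (centralizer (B : Set P)).map (embed P) := by
      rintro _ ⟨h1, p, -, rfl⟩
      exact ⟨p, mem_centralizer_iff.2 fun q hq => hinj (by
        rw [map_mul, map_mul]; exact mem_centralizer_iff.1 h1 _ ⟨q, hq, rfl⟩), rfl⟩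
    have h1 := card_dvd_of_le hinf
    rw [card_map_of_injective hinj] at h1
    have h2 : CB.relIndex (NB.map (embed P)) ≤ CB.relIndex (normalizer ((B.map (embed P) : Subgroup G) : Set G)) :=
      relIndex_le_of_le_right hle Subgroup.index_ne_zero_of_finite
    have h3 := relIndex_mul_relIndex ⊥ CB (normalizer ((B.map (embed P) : Subgroup G) : Set G)) bot_le
      (centralizer_le_normalizer _)
    rw [relIndex_bot_left, relIndex_bot_left, hNB, mul_comm 2 (Nat.card CB)] at h3
    have h4 : CB.relIndex (normalizer ((B.map (embed P) : Subgroup G) : Set G)) = 2 :=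
      Nat.eq_of_mul_eq_mul_left Nat.card_pos h3
    have h5 : Nat.card ↥(CB ⊓ NB.map (embed P)) * CB.relIndex (NB.map (embed P)) =
        Nat.card (NB.map (embed P)) := by
      have := relIndex_mul_relIndex ⊥ (CB ⊓ NB.map (embed P)) (NB.map (embed P)) bot_le inf_le_right
      rwa [relIndex_bot_left, relIndex_bot_left, inf_relIndex_right] at this
    rw [card_map_of_injective hinj, h] at h5
    have h6 := Nat.le_of_dvd Nat.card_pos h1
    have h7 : 0 < Nat.card (centralizer (B : Set P)) := Nat.card_pos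
    rw [h4] at h2
    nlinarith

theorem coprime_sixty_prime [IsSimpleGroup G] (hG : Nat.card G = 175560)
    (P : Subgroup (centralizer ({t} : Set G))) [P.Normal] [IsSimpleGroup P] (hto : orderOf t = 2)
    (hz : (⟨t, mem_centralizer_singleton_iff.2 rfl⟩ : centralizer ({t} : Set G)) ∉ P)
    (hP : Nat.card P = 60) {r : ℕ} (hr : r ∈ [7, 11, 19]) :
    ¬ r ∣ Nat.card (centralizer ({t} : Set G)) := by
  intro hd
  classical
  have hrp : r.Prime := by fin_cases hr <;> norm_num
  have hr6 : 6 < r := by fin_cases hr <;> norm_num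
  haveI := Fact.mk hrp
  haveI : Fact (Nat.Prime 5) := ⟨by norm_num⟩
  obtain ⟨x, hxo⟩ := exists_prime_orderOf_dvd_card' (G := ↥(centralizer ({t} : Set G))) r hd
  set X := zpowers x
  have hX : Nat.card X = r := by rw [Nat.card_zpowers, hxo]
  let φ : X →* MulAut P := MulAut.conjNormal.comp X.subtype
  letI : MulAction X (Sylow 5 P) := MulAction.compHom _ φ
  have hfix : ∀ (k : X) (Q : Sylow 5 P), φ k • (Q : Subgroup P) = (Q : Subgroup P) := by
    intro k Q
    have hdvd : Nat.card (MulAction.orbit X Q) ∣ r := by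
      rw [← hX, Nat.card_congr (MulAction.orbitEquivQuotientStabilizer X Q)]
      exact card_quotient_dvd_card _
    have hle : Nat.card (MulAction.orbit X Q) ≤ 6 := by
      rw [← five_count hP]
      exact Nat.card_le_card_of_injective _ Subtype.val_injective
    have h1 : Nat.card (MulAction.orbit X Q) = 1 :=
      ((Nat.dvd_prime hrp).1 hdvd).resolve_right (by omega)
    obtain ⟨hss, -⟩ := Nat.card_eq_one_iff_unique.1 h1
    have := congrArg Subtype.val (hss.elim (⟨k • Q, MulAction.mem_orbit Q k⟩ : MulAction.orbit X Q)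
      ⟨Q, MulAction.mem_orbit_self Q⟩)
    exact congrArg Sylow.toSubgroup this
  have hx : x ∈ X := mem_zpowers x
  have hcQ : ∀ Q : Sylow 5 P, ∀ q ∈ (Q : Subgroup P), φ ⟨x, hx⟩ q = q := by
    intro Q q hq
    have hQ5 : Nat.card (Q : Subgroup P) = 5 := card_sylow_of hP (by norm_num) (by norm_num) Q
    haveI : IsCyclic (Q : Subgroup P) := isCyclic_of_prime_card hQ5
    have hmem : ∀ (k : X) (q : (Q : Subgroup P)), φ k q ∈ (Q : Subgroup P) := fun k q => by
      conv => enter [1]; rw [← hfix k Q]
      exact smul_mem_pointwise_smul _ _ _ q.2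
    let ψ : X →* MulAut (Q : Subgroup P) :=
      { toFun := fun k =>
          { toFun := fun q => ⟨φ k q, hmem k q⟩
            invFun := fun q => ⟨φ k⁻¹ q, hmem k⁻¹ q⟩
            left_inv := fun q => Subtype.ext (by
              show φ k⁻¹ (φ k q) = q
              rw [← MulAut.mul_apply, ← map_mul, inv_mul_cancel, map_one, MulAut.one_apply])
            right_inv := fun q => Subtype.ext (by
              show φ k (φ k⁻¹ q) = q
              rw [← MulAut.mul_apply, ← map_mul, mul_inv_cancel, map_one, MulAut.one_apply])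
            map_mul' := fun a b => Subtype.ext (map_mul (φ k) _ _) }
        map_one' := MulEquiv.ext fun q => Subtype.ext (by
          show φ 1 q = q
          rw [map_one, MulAut.one_apply])
        map_mul' := fun a b => MulEquiv.ext fun q => Subtype.ext (by
          show φ (a * b) q = φ a (φ b q)
          rw [map_mul, MulAut.mul_apply]) }
    have h1 : orderOf (ψ ⟨x, hx⟩) ∣ r := by
      refine (orderOf_map_dvd ψ _).trans ?_
      rw [orderOf_mk, hxo]
    have h2 : orderOf (ψ ⟨x, hx⟩) ∣ 4 := by
      have := orderOf_dvd_natCard (ψ ⟨x, hx⟩)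
      rwa [IsCyclic.card_mulAut, hQ5, Nat.totient_prime (by norm_num)] at this
    have h3 := orderOf_eq_one_iff.1 (Nat.eq_one_of_dvd_coprimes
      ((hrp.coprime_iff_not_dvd).2 fun h => absurd (Nat.le_of_dvd (by norm_num) h) (by omega)) h1 h2)
    exact congrArg Subtype.val (DFunLike.congr_fun h3 ⟨q, hq⟩)
  have hsup : (⨆ Q : Sylow 5 P, (Q : Subgroup P)) = ⊤ := by
    have hn : (⨆ Q : Sylow 5 P, (Q : Subgroup P)).Normal := ⟨fun n hn g => by
      have hle : (⨆ Q : Sylow 5 P, (Q : Subgroup P)).map (MulAut.conj g).toMonoidHom ≤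
          ⨆ Q : Sylow 5 P, (Q : Subgroup P) := by
        rw [Subgroup.map_iSup]
        exact iSup_le fun Q => le_iSup (fun Q : Sylow 5 P => (Q : Subgroup P)) (g • Q)
      exact hle ⟨n, hn, rfl⟩⟩
    refine hn.eq_bot_or_eq_top.resolve_left fun h => ?_
    obtain ⟨Q⟩ : Nonempty (Sylow 5 P) := inferInstance
    have hQ5 : Nat.card (Q : Subgroup P) = 5 := card_sylow_of hP (by norm_num) (by norm_num) Q
    have hb : (Q : Subgroup P) ≤ ⊥ := h ▸ le_iSup (fun Q : Sylow 5 P => (Q : Subgroup P)) Q
    rw [le_bot_iff.1 hb, card_bot] at hQ5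
    norm_num at hQ5
  have hcentP : ∀ p : P, Commute (x : G) (embed P p) := by
    intro p
    have hp : φ ⟨x, hx⟩ p = p := by
      have hle : (⨆ Q : Sylow 5 P, (Q : Subgroup P)) ≤ (φ ⟨x, hx⟩).toMonoidHom.eqLocus (MonoidHom.id P) :=
        iSup_le fun Q q hq => hcQ Q q hq
      exact hle (hsup ▸ mem_top p)
    have h := congrArg (fun q : P => ((q : ↥(centralizer ({t} : Set G))) : G)) hp
    change (((φ ⟨x, hx⟩ p : P) : ↥(centralizer ({t} : Set G))) : G) = ((p : ↥(centralizer ({t} : Set G))) : G) at h
    rw [show φ ⟨x, hx⟩ p = MulAut.conjNormal x p from rfl, MulAut.conjNormal_apply] at h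
    exact mul_inv_eq_iff_eq_mul.1 h
  set Xg := zpowers (x : G)
  have hXg : Nat.card Xg = r := by rw [Nat.card_zpowers, Subgroup.orderOf_coe, hxo]
  have hxc : ∀ {g : G}, Commute (x : G) g → g ∈ centralizer (Xg : Set G) := fun {g} hg => by
    show g ∈ centralizer ((zpowers (x : G) : Subgroup G) : Set G)
    rw [zpowers_eq_closure, centralizer_closure]
    exact mem_centralizer_singleton_iff.2 hg.symm.eq
  have htX : t ∈ centralizer (Xg : Set G) := hxc (mem_centralizer_singleton_iff.1 x.2)
  have hle : (⊤ : Subgroup P).map (embed P) ≤ centralizer (Xg : Set G) := by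
    rintro _ ⟨p, -, rfl⟩
    exact hxc (hcentP p)
  have hn : zpowers t ≤ normalizer (((⊤ : Subgroup P).map (embed P) : Subgroup G) : Set G) :=
    zpowers_le.2 (centralizer_le_normalizer _ (mem_centralizer_map P ⊤))
  have hdisj : Disjoint ((⊤ : Subgroup P).map (embed P)) (zpowers t) := by
    rw [disjoint_iff, eq_bot_iff]
    rintro w ⟨⟨p, -, rfl⟩, hw1⟩
    rw [mem_bot]
    by_contra hw
    obtain ⟨k, hk⟩ := mem_zpowers_iff.1 hw1
    have hwo : orderOf (embed P p) = 2 := by
      refine orderOf_eq_prime ?_ hw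
      have h2 : t ^ 2 = 1 := hto ▸ pow_orderOf_eq_one t
      rw [← hk, ← zpow_natCast, ← zpow_mul, mul_comm, zpow_mul, zpow_natCast, h2, one_zpow]
    have h1 := Involutions.OrderFormula.eq_middle hwo hw1
    rw [hto, show 2 / 2 = 1 from rfl, pow_one] at h1
    exact embed_ne hz p h1
  have hcard := SylowAb.card_sup hn hdisj
  rw [card_map_of_injective (embed_injective P), card_top, hP, Nat.card_zpowers, hto] at hcard
  have h120 : 120 ∣ Nat.card (centralizer (Xg : Set G)) :=
    hcard.symm.dvd.trans (card_dvd_of_le (sup_le hle (zpowers_le.2 htX)))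
  exact (facts hG (p := r) (by fin_cases hr <;> simp [primes]) hXg).2.2.1 h120

theorem centralizer_iso [IsSimpleGroup G] (hG : Nat.card G = 175560) (S : Sylow 2 G)
    (hexp : ∀ x ∈ (S : Subgroup G), x * x = 1) (ht : t ∈ (S : Subgroup G)) (ht1 : t ≠ 1)
    (hns : ¬ Group.IsSolvable (centralizer ({t} : Set G))) :
    Nonempty (centralizer ({t} : Set G) ≃* Multiplicative (ZMod 2) × alternatingGroup (Fin 5)) := by
  have hto : orderOf t = 2 := orderOf_eq_prime (by rw [sq]; exact hexp t ht) ht1
  obtain ⟨P, hPn, hPs, hP, hz⟩ := exists_simple_normal hG S hexp ht ht1 hns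
  haveI := hPn
  haveI := hPs
  rcases hP with hP | hP | hP
  · set z : ↥(centralizer ({t} : Set G)) := ⟨t, mem_centralizer_singleton_iff.2 rfl⟩
    have hzo : orderOf z = 2 := (Subgroup.orderOf_coe z).symm.trans hto
    obtain ⟨e⟩ := Cfsg.Agent.S0494.result (G := P) hP
    have hcomm : ∀ (a : zpowers z) (b : P), Commute (a : ↥(centralizer ({t} : Set G))) (b : ↥(centralizer ({t} : Set G))) := fun a b => by
      obtain ⟨k, hk⟩ := mem_zpowers_iff.1 a.2
      rw [← hk]
      exact (show Commute z (b : ↥(centralizer ({t} : Set G))) from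
        Subtype.ext (mem_centralizer_singleton_iff.1 (b : ↥(centralizer ({t} : Set G))).2).symm).zpow_left k
    let ψ : zpowers z × P →* ↥(centralizer ({t} : Set G)) := MonoidHom.noncommCoprod (zpowers z).subtype P.subtype hcomm
    have hψ : Function.Injective ψ := by
      refine (MonoidHom.noncommCoprod_injective _ _ _).2
        ⟨(zpowers z).subtype_injective, P.subtype_injective, ?_⟩
      rw [range_subtype, range_subtype, disjoint_iff, eq_bot_iff]
      rintro w ⟨hw1, hw2⟩
      rw [mem_bot]
      by_contra hw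
      have hwo : orderOf w = 2 := by
        refine orderOf_eq_prime ?_ hw
        obtain ⟨k, rfl⟩ := mem_zpowers_iff.1 hw1
        have h2 : z ^ 2 = 1 := hzo ▸ pow_orderOf_eq_one z
        rw [← zpow_natCast, ← zpow_mul, mul_comm, zpow_mul, zpow_natCast, h2, one_zpow]
      have h1 := Involutions.OrderFormula.eq_middle hwo hw1
      rw [hzo, show 2 / 2 = 1 from rfl, pow_one] at h1
      exact hz (h1 ▸ hw2)
    have hdC : Nat.card (centralizer ({t} : Set G)) ∣ 120 := by
      have hd : Nat.card (centralizer ({t} : Set G)) ∣ 120 * (7 * 11 * 19) := (card_subgroup_dvd_card (centralizer ({t} : Set G))).trans hG.dvd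
      refine Nat.Coprime.dvd_of_dvd_mul_right ?_ hd
      have h : ∀ r ∈ [7, 11, 19], Nat.Coprime (Nat.card (centralizer ({t} : Set G))) r := fun r hr =>
        ((Nat.Prime.coprime_iff_not_dvd (by fin_cases hr <;> norm_num)).2
          (coprime_sixty_prime hG P hto hz hP hr)).symm
      exact ((h 7 (by simp)).mul_right (h 11 (by simp))).mul_right (h 19 (by simp))
    have hbij : Function.Bijective ψ := by
      refine (Nat.bijective_iff_injective_and_card ψ).2 ⟨hψ, ?_⟩
      have h1 := Nat.card_le_card_of_injective ψ hψ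
      rw [Nat.card_prod, Nat.card_zpowers, hzo, hP] at h1 ⊢
      have h2 := Nat.le_of_dvd (by norm_num) hdC
      omega
    let e2 : zpowers z ≃* Multiplicative (ZMod 2) :=
      mulEquivOfCyclicCardEq (by rw [Nat.card_zpowers, hzo]; simp)
    exact ⟨(MulEquiv.ofBijective ψ hbij).symm.trans (e2.prodCongr e)⟩
  · exact (not_660 hG hexp hto P hz hP).elim
  · exact (not_4620 hG hto P hz hP).elim

theorem janko_data [IsSimpleGroup G] (hG : Nat.card G = 175560) :
    ∃ (S : Sylow 2 G) (t : G), IsMulCommutative (S : Subgroup G) ∧ Nat.card S = 8 ∧ orderOf t = 2 ∧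
      t ∈ (S : Subgroup G) ∧
      Nonempty (centralizer ({t} : Set G) ≃* Multiplicative (ZMod 2) × alternatingGroup (Fin 5)) := by
  obtain ⟨S, hexp | he⟩ := sylow_shape hG
  · obtain ⟨a, ha, ha1, hns⟩ := exists_insoluble hG S hexp
    exact ⟨S, a, ⟨⟨fun x y => Subtype.ext (comm_exp2 hexp x x.2 y y.2)⟩⟩, card_sylow_two hG S,
      orderOf_eq_prime (by rw [sq]; exact hexp a ha) ha1, ha, centralizer_iso hG S hexp ha ha1 hns⟩
  · exact he.elim fun e => (not_dihedral hG S e).elim

end Cfsg.Agent.J1FromOrder
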