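import Cfsg.Agent.GroupStructure3.J1Order.Main
import Cfsg.Agent.Lib.Forms.DicksonShapes

/-! Sylow data in a simple group of order `175560`, and in the small simple sections. -/

set_option autoImplicit false
set_option linter.style.haveILetI false

namespace Cfsg.Agent.J1FromOrder

open Subgroup Cfsg.Agent.GroupStructure3.J1Order

/-- The search with a property to be verified at each leaf. -/
def check (N : ℕ) (good : List Opt → Bool) : List ℕ → List Opt → Bool
  | [], acc => tooMany N acc || good acc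
  | p :: ps, acc =>
    (opts N p).all fun o => !(acc.all fun o' => compatible o o') || check N good ps (o :: acc)

variable {G : Type*} [Group G] [Finite G]

theorem check_sound (N : ℕ) (hN : Nat.card G = N) (good : List Opt → Bool) :
    ∀ (ps : List ℕ) (acc : List Opt), (∀ o ∈ acc, Real G o ∧ o ∈ opts N o.1) →
    (ps ++ acc.map Prod.fst).Nodup → (∀ p ∈ ps, ∃ o ∈ opts N p, Real G o ∧ o.1 = p) →
    check N good ps acc = true →
    ∃ full : List Opt, (∀ o ∈ full, Real G o ∧ o ∈ opts N o.1) ∧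
      full.map Prod.fst = ps.reverse ++ acc.map Prod.fst ∧ good full = true
  | [], acc, hr, hnd, _, hc => by
    classical
    haveI := Fintype.ofFinite G
    refine ⟨acc, hr, by simp, ?_⟩
    have h : tooMany N acc = false := by
      rw [← Bool.not_eq_true]
      intro h
      simp only [tooMany, List.any_eq_true, Bool.and_eq_true, decide_eq_true_eq] at h
      obtain ⟨I, -, hi, hlt⟩ := h
      obtain ⟨S, hS, -⟩ := lowerCount_le (I := I) acc (fun o ho => (hr o ho).1) (by simpa using hnd)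
        fun o ho hoI q hq => by
        obtain ⟨p, n, e, c⟩ := o
        have := List.all_eq_true.1 hi _ ho
        simp only [Bool.or_eq_true, Bool.not_eq_true', decide_eq_false_iff_not, List.all_eq_true,
          decide_eq_true_eq] at this
        exact this.resolve_left (fun h => h hoI) q hq
      have := S.card_le_univ
      rw [← Nat.card_eq_fintype_card, hN] at this
      omega
    have hc' : (tooMany N acc || good acc) = true := hc
    simpa [h] using hc'
  | p :: ps, acc, hr, hnd, hex, hc => by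
    rw [List.cons_append, List.nodup_cons] at hnd
    obtain ⟨o, ho, hro, hop⟩ := hex p List.mem_cons_self
    have h := List.all_eq_true.1 (show (opts N p).all _ = true from hc) o ho
    have hcomp : (acc.all fun o' => compatible o o') = true := List.all_eq_true.2 fun o' ho' => by
      obtain ⟨p', n, e, c⟩ := o
      obtain ⟨q, n', e', d⟩ := o'
      have hne : p' ≠ q := fun h => hnd.1 (List.mem_append_right _
        (List.mem_map.2 ⟨_, ho', h.symm.trans hop⟩))
      simp only [compatible, decide_eq_true_eq]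
      exact ⟨compatible_dir hro (hr _ ho').1 hne, compatible_dir (hr _ ho').1 hro hne.symm⟩
    rw [hcomp, Bool.not_true, Bool.false_or] at h
    obtain ⟨full, h1, h2, h3⟩ := check_sound N hN good ps (o :: acc)
      (List.forall_mem_cons.2 ⟨⟨hro, hop.symm ▸ ho⟩, hr⟩)
      (by rw [List.map_cons, hop, (List.perm_middle).nodup_iff, List.nodup_cons]; exact hnd)
      (fun q hq => hex q (List.mem_cons_of_mem _ hq)) h
    exact ⟨full, h1, by simp [h2, hop], h3⟩

/-- What an option says about a subgroup of order `p`. -/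
theorem opt_spec {N p n e c : ℕ} (hN : Nat.card G = N) (hd : ¬ p * p ∣ N)
    (h : Real G (p, n, e, c) ∧ (p, n, e, c) ∈ opts N p) {Q : Subgroup G} (hQ : Nat.card Q = p) :
    Nat.card (centralizer (Q : Set G)) = p * c ∧
      Nat.card (normalizer (Q : Set G)) = p * e * c ∧ ∃ P : Sylow p G, (P : Subgroup G) = Q := by
  obtain ⟨⟨hpp, -, hn, hP⟩, hm⟩ := h
  haveI := Fact.mk hpp
  obtain ⟨P, rfl⟩ := Forms.DicksonShapes.exists_sylow (G := G) (r := p) (by rw [hN, sq]; exact hd) Q hQ
  refine ⟨(hP P).2, ?_, P, rfl⟩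
  simp only [opts, List.mem_flatMap] at hm
  obtain ⟨n', -, e', -, hm⟩ := hm
  split_ifs at hm with hok
  · rw [List.mem_singleton] at hm
    simp only [Prod.mk.injEq] at hm
    obtain ⟨-, rfl, rfl, rfl⟩ := hm
    simp only [optOk, decide_eq_true_eq] at hok
    obtain ⟨-, hn1, -, -, hmul, -⟩ := hok
    have h1 : (normalizer ((P : Subgroup G) : Set G)).index = n := by
      exact P.card_eq_index_normalizer.symm.trans hn
    have h2 := (normalizer ((P : Subgroup G) : Set G)).card_mul_index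
    rw [h1, hN, ← hmul] at h2
    exact Nat.eq_of_mul_eq_mul_right (show 0 < n by omega) (h2.trans (by ring))
  · simp at hm

/-- The conditions on one prime in order `175560`. -/
def good1 : Opt → Bool
  | (p, _, e, c) => decide ((4 ∣ c → p = 3 ∨ p = 11) ∧ (8 ∣ c → p = 11) ∧ ¬ 120 ∣ p * c ∧
      (p = 11 → p * e * c ≤ 1320))

/-- The joint condition in order `175560`. -/
def good : List Opt → Bool
  | [o3, o5, o7, o11, o19] => ([o3, o5, o7, o11, o19].all good1) &&
      decide (2 ∣ o11.2.2.2 → ¬ 4 ∣ o11.2.2.2 → 2 ∣ o5.2.2.2 →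
        o5.2.2.1 = 2 ∧ ¬ 4 ∣ o5.2.2.2 ∧ ¬ 4 ∣ o3.2.2.2) &&
      decide (2 ∣ o3.2.2.2 → 2 ∣ o5.2.2.2 → 2 ∣ o7.2.2.2 → 2 ∣ o11.2.2.2 →
        o7.1 * o7.2.2.1 * o7.2.2.2 = 42)
  | _ => false

set_option maxRecDepth 20000 in
theorem check_big : check 175560 good [19, 11, 7, 5, 3] [] = true := by decide +kernel

/-- Order `660`: `C(P₁₁) = P₁₁`, and one of three further properties. -/
def good660 : List Opt → Bool
  | [o3, o5, o11] => decide (o11.2.2.2 = 1 ∧ (2 ∣ o5.2.2.2 ∨ 2 ∣ o3.2.2.2 ∨ o5.2.2.1 = 4))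
  | _ => false

set_option maxRecDepth 20000 in
theorem check_660 : check 660 good660 [11, 5, 3] [] = true := by decide +kernel

/-- Order `60`: six Sylow `5`-subgroups. -/
def good60 : List Opt → Bool
  | [_, o5] => decide (o5.2.1 = 6)
  | _ => false

set_option maxRecDepth 20000 in
theorem check_60 : check 60 good60 [5, 3] [] = true := by decide +kernel

theorem not_comm [IsSimpleGroup G] (h : ¬ (Nat.card G).Prime) : ¬ IsMulCommutative G :=
  SmallSimple.Basic.not_comm_of_not_prime h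

theorem rows_big [IsSimpleGroup G] (hG : Nat.card G = 175560) :
    ∃ o3 o5 o7 o11 o19 : Opt, (Real G o3 ∧ o3 ∈ opts 175560 o3.1) ∧ (Real G o5 ∧ o5 ∈ opts 175560 o5.1) ∧
      (Real G o7 ∧ o7 ∈ opts 175560 o7.1) ∧ (Real G o11 ∧ o11 ∈ opts 175560 o11.1) ∧
      (Real G o19 ∧ o19 ∈ opts 175560 o19.1) ∧
      o3.1 = 3 ∧ o5.1 = 5 ∧ o7.1 = 7 ∧ o11.1 = 11 ∧ o19.1 = 19 ∧
      good [o3, o5, o7, o11, o19] = true := by
  obtain ⟨full, h1, h2, h3⟩ := check_sound 175560 hG good [19, 11, 7, 5, 3] [] (by simp) (by simp)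
    (fun p hp => by
      have := exists_opt (not_comm (G := G) (by rw [hG]; norm_num)) hG.dvd hp
        (by rw [hG]; fin_cases hp <;> norm_num)
      rwa [hG] at this) check_big
  match full, h2, h3, h1 with
  | [o3, o5, o7, o11, o19], h2, h3, h1 =>
    simp only [List.map_cons, List.map_nil, List.reverse_cons, List.reverse_nil, List.nil_append,
      List.cons_append, List.append_nil, List.cons.injEq, and_true] at h2
    exact ⟨o3, o5, o7, o11, o19, h1 _ (by simp), h1 _ (by simp), h1 _ (by simp), h1 _ (by simp),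
      h1 _ (by simp), h2.1, h2.2.1, h2.2.2.1, h2.2.2.2.1, h2.2.2.2.2, h3⟩

/-- The odd primes of `175560`. -/
def primes : List ℕ := [3, 5, 7, 11, 19]

theorem facts [IsSimpleGroup G] (hG : Nat.card G = 175560) {p : ℕ} (hp : p ∈ primes) {Q : Subgroup G}
    (hQ : Nat.card Q = p) :
    (4 ∣ Nat.card (centralizer (Q : Set G)) → p = 3 ∨ p = 11) ∧
    (8 ∣ Nat.card (centralizer (Q : Set G)) → p = 11) ∧
    ¬ 120 ∣ Nat.card (centralizer (Q : Set G)) ∧
    (p = 11 → Nat.card (normalizer (Q : Set G)) ≤ 1320) := by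
  obtain ⟨o3, o5, o7, o11, o19, r3, r5, r7, r11, r19, e3, e5, e7, e11, e19, hg⟩ := rows_big hG
  simp only [good, Bool.and_eq_true, List.all_cons, List.all_nil, and_true] at hg
  obtain ⟨o, ho, hop, hgo⟩ : ∃ o : Opt, (Real G o ∧ o ∈ opts 175560 o.1) ∧ o.1 = p ∧ good1 o = true := by
    simp only [primes, List.mem_cons, List.not_mem_nil, or_false] at hp
    rcases hp with rfl | rfl | rfl | rfl | rfl
    exacts [⟨o3, r3, e3, hg.1.1.1⟩, ⟨o5, r5, e5, hg.1.1.2.1⟩, ⟨o7, r7, e7, hg.1.1.2.2.1⟩,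
      ⟨o11, r11, e11, hg.1.1.2.2.2.1⟩, ⟨o19, r19, e19, hg.1.1.2.2.2.2⟩]
  obtain ⟨q, n, e, c⟩ := o
  obtain rfl : q = p := hop
  obtain ⟨hC, hN, -⟩ := opt_spec hG (by
    simp only [primes, List.mem_cons, List.not_mem_nil, or_false] at hp
    rcases hp with rfl | rfl | rfl | rfl | rfl <;> norm_num) ho hQ
  simp only [good1, decide_eq_true_eq] at hgo
  obtain ⟨h4, h8, h120, h11⟩ := hgo
  have hq2 : ¬ 2 ∣ q := by
    simp only [primes, List.mem_cons, List.not_mem_nil, or_false] at hp
    rcases hp with rfl | rfl | rfl | rfl | rfl <;> norm_num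
  have h2 : Nat.Coprime 2 q := (Nat.prime_two.coprime_iff_not_dvd).2 hq2
  rw [hC, hN]
  exact ⟨fun h => h4 ((h2.pow_left 2).dvd_of_dvd_mul_left h),
    fun h => h8 ((h2.pow_left 3).dvd_of_dvd_mul_left h), h120, h11⟩

theorem facts_660 [IsSimpleGroup G] (hG : Nat.card G = 175560) {A B D : Subgroup G}
    (hA : Nat.card A = 11) (hB : Nat.card B = 5) (hD : Nat.card D = 3)
    (hA2 : 2 ∣ Nat.card (centralizer (A : Set G))) (hA4 : ¬ 4 ∣ Nat.card (centralizer (A : Set G)))
    (hB2 : 2 ∣ Nat.card (centralizer (B : Set G))) :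
    Nat.card (normalizer (B : Set G)) = 2 * Nat.card (centralizer (B : Set G)) ∧
    ¬ 4 ∣ Nat.card (centralizer (B : Set G)) ∧ ¬ 4 ∣ Nat.card (centralizer (D : Set G)) := by
  obtain ⟨o3, o5, o7, o11, o19, r3, r5, r7, r11, r19, e3, e5, e7, e11, e19, hg⟩ := rows_big hG
  simp only [good, Bool.and_eq_true, decide_eq_true_eq] at hg
  obtain ⟨q3, n3, f3, c3⟩ := o3
  obtain ⟨q5, n5, f5, c5⟩ := o5
  obtain ⟨q11, n11, f11, c11⟩ := o11
  subst e3 e5 e11
  obtain ⟨hCA, -, -⟩ := opt_spec hG (by norm_num) r11 hA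
  obtain ⟨hCB, hNB, -⟩ := opt_spec hG (by norm_num) r5 hB
  obtain ⟨hCD, -, -⟩ := opt_spec hG (by norm_num) r3 hD
  rw [hCA] at hA2 hA4
  rw [hCB] at hB2
  obtain ⟨h1, h2, h3⟩ := hg.1.2 ((Nat.prime_two.dvd_mul.1 hA2).resolve_left (by norm_num))
    (fun h => hA4 (h.mul_left _)) ((Nat.prime_two.dvd_mul.1 hB2).resolve_left (by norm_num))
  simp only at h1 h2 h3
  refine ⟨?_, fun h => h2 ?_, fun h => h3 ?_⟩
  · rw [hNB, hCB, h1]; ring
  · rw [hCB] at h; exact (show Nat.Coprime 4 5 by norm_num).dvd_of_dvd_mul_left h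
  · rw [hCD] at h; exact (show Nat.Coprime 4 3 by norm_num).dvd_of_dvd_mul_left h

theorem facts_4620 [IsSimpleGroup G] (hG : Nat.card G = 175560) {A B D E : Subgroup G}
    (hA : Nat.card A = 3) (hB : Nat.card B = 5) (hD : Nat.card D = 7) (hE : Nat.card E = 11)
    (h3 : 2 ∣ Nat.card (centralizer (A : Set G))) (h5 : 2 ∣ Nat.card (centralizer (B : Set G)))
    (h7 : 2 ∣ Nat.card (centralizer (D : Set G))) (h11 : 2 ∣ Nat.card (centralizer (E : Set G))) :
    Nat.card (normalizer (D : Set G)) = 42 := by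
  obtain ⟨o3, o5, o7, o11, o19, r3, r5, r7, r11, r19, e3, e5, e7, e11, e19, hg⟩ := rows_big hG
  simp only [good, Bool.and_eq_true, decide_eq_true_eq] at hg
  obtain ⟨q3, n3, f3, c3⟩ := o3
  obtain ⟨q5, n5, f5, c5⟩ := o5
  obtain ⟨q7, n7, f7, c7⟩ := o7
  obtain ⟨q11, n11, f11, c11⟩ := o11
  subst e3 e5 e7 e11
  obtain ⟨hCA, -, -⟩ := opt_spec hG (by norm_num) r3 hA
  obtain ⟨hCB, -, -⟩ := opt_spec hG (by norm_num) r5 hB
  obtain ⟨hCD, hND, -⟩ := opt_spec hG (by norm_num) r7 hD
  obtain ⟨hCE, -, -⟩ := opt_spec hG (by norm_num) r11 hE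
  rw [hCA] at h3; rw [hCB] at h5; rw [hCD] at h7; rw [hCE] at h11
  rw [hND]
  exact hg.2 ((Nat.prime_two.dvd_mul.1 h3).resolve_left (by norm_num))
    ((Nat.prime_two.dvd_mul.1 h5).resolve_left (by norm_num))
    ((Nat.prime_two.dvd_mul.1 h7).resolve_left (by norm_num))
    ((Nat.prime_two.dvd_mul.1 h11).resolve_left (by norm_num))

theorem five_count [IsSimpleGroup G] (hG : Nat.card G = 60) : Nat.card (Sylow 5 G) = 6 := by
  obtain ⟨full, h1, h2, h3⟩ := check_sound 60 hG good60 [5, 3] [] (by simp) (by simp)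
    (fun p hp => by
      have := exists_opt (not_comm (G := G) (by rw [hG]; norm_num)) (by rw [hG]; norm_num)
        (p := p) (by fin_cases hp <;> simp) (by rw [hG]; fin_cases hp <;> norm_num)
      rwa [hG] at this) check_60
  match full, h2, h3, h1 with
  | [(p3, n3, f3, c3), (p5, n5, f5, c5)], h2, h3, h1 =>
    simp only [List.map_cons, List.map_nil, List.reverse_cons, List.reverse_nil, List.nil_append,
      List.cons_append, List.append_nil, List.cons.injEq, and_true] at h2
    obtain ⟨rfl, rfl⟩ := h2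
    simp only [good60, decide_eq_true_eq] at h3
    exact (h1 _ (List.mem_cons_of_mem _ List.mem_cons_self)).1.2.2.1.trans h3

theorem data_660 [IsSimpleGroup G] (hG : Nat.card G = 660) :
    ∃ A B D : Subgroup G, Nat.card A = 11 ∧ Nat.card B = 5 ∧ Nat.card D = 3 ∧
      Nat.card (centralizer (A : Set G)) = 11 ∧
      (2 ∣ Nat.card (centralizer (B : Set G)) ∨ 2 ∣ Nat.card (centralizer (D : Set G)) ∨
        Nat.card (normalizer (B : Set G)) = 4 * Nat.card (centralizer (B : Set G))) := by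
  obtain ⟨full, h1, h2, h3⟩ := check_sound 660 hG good660 [11, 5, 3] [] (by simp) (by simp)
    (fun p hp => by
      have := exists_opt (not_comm (G := G) (by rw [hG]; norm_num)) (by rw [hG]; norm_num)
        (p := p) (by fin_cases hp <;> simp) (by rw [hG]; fin_cases hp <;> norm_num)
      rwa [hG] at this) check_660
  match full, h2, h3, h1 with
  | [(p3, n3, f3, c3), (p5, n5, f5, c5), (p11, n11, f11, c11)], h2, h3, h1 =>
    simp only [List.map_cons, List.map_nil, List.reverse_cons, List.reverse_nil, List.nil_append,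
      List.cons_append, List.append_nil, List.cons.injEq, and_true] at h2
    obtain ⟨rfl, rfl, rfl⟩ := h2
    simp only [good660, decide_eq_true_eq] at h3
    obtain ⟨hc11, hor⟩ := h3
    haveI : Fact (Nat.Prime 11) := ⟨by norm_num⟩
    haveI : Fact (Nat.Prime 5) := ⟨by norm_num⟩
    haveI : Fact (Nat.Prime 3) := ⟨by norm_num⟩
    obtain ⟨A⟩ : Nonempty (Sylow 11 G) := inferInstance
    obtain ⟨B⟩ : Nonempty (Sylow 5 G) := inferInstance
    obtain ⟨D⟩ : Nonempty (Sylow 3 G) := inferInstance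
    have r3 := h1 (3, n3, f3, c3) (by simp)
    have r5 := h1 (5, n5, f5, c5) (by simp)
    have r11 := h1 (11, n11, f11, c11) (by simp)
    have hA := (r11.1.2.2.2 A).1
    have hB := (r5.1.2.2.2 B).1
    have hD := (r3.1.2.2.2 D).1
    obtain ⟨hCA, -, -⟩ := opt_spec hG (by norm_num) r11 hA
    obtain ⟨hCB, hNB, -⟩ := opt_spec hG (by norm_num) r5 hB
    obtain ⟨hCD, -, -⟩ := opt_spec hG (by norm_num) r3 hD
    refine ⟨A, B, D, hA, hB, hD, by rw [hCA, hc11], ?_⟩
    rcases hor with h | h | h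
    · exact Or.inl (hCB ▸ h.mul_left _)
    · exact Or.inr (Or.inl (hCD ▸ h.mul_left _))
    · refine Or.inr (Or.inr ?_)
      rw [hNB, hCB, h]; ring

end Cfsg.Agent.J1FromOrder
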