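import Cfsg.Agent.Lib.J1FromOrder.Solvable
import Cfsg.Agent.Lib.Perm.NonsolvableRegular
import Cfsg.Agent.Lib.SylowAb.Basic
import Cfsg.Agent.S0089
import Cfsg.Agent.S0073
import Cfsg.Agent.S0496

/-! The insoluble centralizer of an involution contains a simple group of order `60`, `660` or `4620`. -/

set_option autoImplicit false
set_option linter.style.haveILetI false

namespace Cfsg.Agent.J1FromOrder

open Subgroup

theorem squarefree_odd_double : Squarefree 43890 := by
  have h : ∀ a b : ℕ, Nat.Coprime a b → Squarefree a → Squarefree b → Squarefree (a * b) :=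
    fun a b hab ha hb => (Nat.squarefree_mul hab).2 ⟨ha, hb⟩
  have hp : ∀ q : ℕ, q.Prime → Squarefree q := fun q hq => hq.squarefree
  exact h (2 * 3 * 5 * 7 * 11) 19 (by norm_num)
    (h (2 * 3 * 5 * 7) 11 (by norm_num)
      (h (2 * 3 * 5) 7 (by norm_num)
        (h (2 * 3) 5 (by norm_num) (h 2 3 (by norm_num) (hp 2 (by norm_num)) (hp 3 (by norm_num)))
          (hp 5 (by norm_num))) (hp 7 (by norm_num))) (hp 11 (by norm_num))) (hp 19 (by norm_num))

theorem squarefree_not_sq {p : ℕ} (hp : p.Prime) (h2 : p ≠ 2) : ¬ p ^ 2 ∣ 175560 := by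
  intro h
  have h' : p ^ 2 ∣ 21945 := (((Nat.coprime_primes hp Nat.prime_two).2 h2).pow 2 3).dvd_of_dvd_mul_left
    (show p ^ 2 ∣ 2 ^ 3 * 21945 from h)
  have hsq : Squarefree 21945 := squarefree_odd_double.squarefree_of_dvd (by norm_num)
  exact hp.ne_one (Nat.isUnit_iff.1 (hsq p (by rwa [← sq])))

/-- A normal cyclic subgroup of a perfect group with trivial center is trivial. -/
theorem cyclic_normal_eq_bot {P : Type*} [Group P] (hperf : commutator P = ⊤) (hcen : center P = ⊥)
    (A : Subgroup P) [A.Normal] [IsCyclic A] : A = ⊥ := by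
  let φ : P →* MulAut A := MulAut.conjNormal
  have hk : commutator P ≤ φ.ker := by
    letI : CommGroup (MulAut A) := (IsCyclic.mulAutMulEquiv A).toMonoidHom.commGroupOfInjective
      (IsCyclic.mulAutMulEquiv A).injective
    exact Abelianization.commutator_subset_ker φ
  rw [hperf, top_le_iff] at hk
  rw [← le_bot_iff, ← hcen]
  intro x hx
  refine mem_center_iff.2 fun g => ?_
  have hg : g ∈ φ.ker := hk ▸ mem_top g
  have h := congrArg (fun f : MulAut A => ((f ⟨x, hx⟩ : A) : P)) (MonoidHom.mem_ker.1 hg)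
  simp only [φ, MulAut.conjNormal_apply, MulAut.one_apply] at h
  exact mul_inv_eq_iff_eq_mul.1 h

variable {G : Type*} [Group G] [Finite G]

theorem exp_two_all {S : Sylow 2 G} (hexp : ∀ x ∈ (S : Subgroup G), x * x = 1) (R : Sylow 2 G) :
    ∀ x ∈ (R : Subgroup G), x * x = 1 := by
  haveI : Fact (Nat.Prime 2) := ⟨Nat.prime_two⟩
  intro x hx
  have h : R.equiv S ⟨x, hx⟩ * R.equiv S ⟨x, hx⟩ = 1 := Subtype.ext (hexp _ (R.equiv S ⟨x, hx⟩).2)
  rw [← map_mul, ← (R.equiv S).map_one] at h
  exact congrArg Subtype.val ((R.equiv S).injective h)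

theorem exp_two_pgroup {S : Sylow 2 G} (hexp : ∀ x ∈ (S : Subgroup G), x * x = 1) {H : Subgroup G}
    (hH : IsPGroup 2 H) : ∀ x ∈ H, x * x = 1 := by
  obtain ⟨R, hR⟩ := hH.exists_le_sylow
  exact fun x hx => exp_two_all hexp R x (hR hx)

theorem sylow_comm (hG : Nat.card G = 175560) {S : Sylow 2 G}
    (hexp : ∀ x ∈ (S : Subgroup G), x * x = 1) {H : Type*} [Group H] [Finite H] (f : H →* G)
    (hf : Function.Injective f) {p : ℕ} (hp : p.Prime) (R : Sylow p H) :
    IsMulCommutative (R : Subgroup H) := by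
  haveI := Fact.mk hp
  by_cases h2 : p = 2
  · subst h2
    have h := exp_two_pgroup hexp (R.2.map f)
    exact ⟨⟨fun x y => Subtype.ext (hf (by
      show f ((x : H) * y) = f ((y : H) * x)
      rw [map_mul, map_mul]
      exact comm_exp2 h _ ⟨x, x.2, rfl⟩ _ ⟨y, y.2, rfl⟩))⟩⟩
  · obtain ⟨k, hk⟩ := IsPGroup.iff_card.1 R.2
    have hd : p ^ k ∣ 175560 := by
      rw [← hk, ← hG, ← card_map_of_injective hf]
      exact card_subgroup_dvd_card _
    have hk1 : k ≤ 1 := by
      by_contra hk1
      exact squarefree_not_sq hp h2 ((pow_dvd_pow p (by omega : 2 ≤ k)).trans hd)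
    interval_cases k
    · haveI : Subsingleton (R : Subgroup H) := (Nat.card_eq_one_iff_unique.1 (by simpa using hk)).1
      exact ⟨⟨fun x y => Subsingleton.elim _ _⟩⟩
    · haveI : IsCyclic (R : Subgroup H) := isCyclic_of_prime_card (by simpa using hk)
      letI := IsCyclic.commGroup (α := (R : Subgroup H))
      exact ⟨⟨mul_comm⟩⟩

theorem exists_simple_normal [IsSimpleGroup G] (hG : Nat.card G = 175560) (S : Sylow 2 G)
    (hexp : ∀ x ∈ (S : Subgroup G), x * x = 1) {t : G} (ht : t ∈ (S : Subgroup G)) (ht1 : t ≠ 1)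
    (hns : ¬ Group.IsSolvable (centralizer ({t} : Set G))) :
    ∃ P : Subgroup (centralizer ({t} : Set G)), P.Normal ∧ IsSimpleGroup P ∧
      (Nat.card P = 60 ∨ Nat.card P = 660 ∨ Nat.card P = 4620) ∧
      (⟨t, mem_centralizer_singleton_iff.2 rfl⟩ : centralizer ({t} : Set G)) ∉ P := by
  haveI : Fact (Nat.Prime 2) := ⟨Nat.prime_two⟩
  classical
  set C := centralizer ({t} : Set G)
  set z : C := ⟨t, mem_centralizer_singleton_iff.2 rfl⟩
  have hzc : ∀ c : C, c * z = z * c := fun c =>
    Subtype.ext (mem_centralizer_singleton_iff.1 c.2)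
  obtain ⟨P, hPn, hPnt, hperf⟩ := Perm.NearField.exists_perfect_normal hns
  haveI := hPn
  haveI := hPnt
  have hcen : center P = ⊥ := by
    have h := Cfsg.Agent.S0089.result (G := P) fun p hp R =>
      sylow_comm hG hexp (C.subtype.comp P.subtype) (C.subtype_injective.comp P.subtype_injective) hp R
    rwa [hperf, top_inf_eq] at h
  have hzP : z ∉ P := fun hz => by
    have h : (⟨z, hz⟩ : P) ∈ center P := mem_center_iff.2 fun g => Subtype.ext (hzc g)
    rw [hcen, mem_bot] at h
    exact ht1 (congrArg (fun w : P => ((w : C) : G)) h)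
  have hzo : orderOf z = 2 := by
    rw [← Subgroup.orderOf_coe]
    exact orderOf_eq_prime (by rw [sq]; exact hexp t ht) ht1
  have hdvd : 2 * Nat.card P ∣ 175560 := by
    have hdisj : Disjoint (zpowers z) P := by
      rw [disjoint_iff, eq_bot_iff]
      rintro w ⟨hw1, hw2⟩
      obtain ⟨k, hk, rfl⟩ := Finset.mem_image.1 (mem_zpowers_iff_mem_range_orderOf.1 hw1)
      rw [Finset.mem_range, hzo] at hk
      interval_cases k
      · simp
      · rw [pow_one] at hw2
        exact absurd hw2 hzP
    have h := SylowAb.card_sup (A := P) (B := zpowers z) (by rw [normalizer_eq_top]; exact le_top)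
      hdisj.symm
    rw [Nat.card_zpowers, hzo] at h
    rw [mul_comm, ← h, ← hG]
    exact (card_subgroup_dvd_card _).trans (card_subgroup_dvd_card _)
  obtain ⟨K, hKn, hKmax⟩ := (Set.toFinite {N : Subgroup P | N.Normal ∧ N ≠ ⊤}).exists_le_maximal
    (show (⊥ : Subgroup P) ∈ {N : Subgroup P | N.Normal ∧ N ≠ ⊤} from ⟨inferInstance, bot_ne_top⟩)
  obtain ⟨hKn', hKt⟩ := hKmax.prop
  haveI := hKn'
  haveI : Nontrivial (P ⧸ K) := QuotientGroup.nontrivial_iff.mpr hKt
  haveI hsimple : IsSimpleGroup (P ⧸ K) := ⟨fun B hB => by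
    by_contra hc
    push Not at hc
    have h1 : K ≤ B.comap (QuotientGroup.mk' K) :=
      (QuotientGroup.ker_mk' K).ge.trans (MonoidHom.ker_le_comap _ _)
    have h2 : B.comap (QuotientGroup.mk' K) ≠ ⊤ := fun e => hc.2 (by
      rw [← map_comap_eq_self_of_surjective (QuotientGroup.mk'_surjective K) B, e,
        map_top_of_surjective _ (QuotientGroup.mk'_surjective K)])
    have h3 := hKmax.le_of_ge ⟨Normal.comap hB _, h2⟩ h1
    refine hc.1 ?_
    rw [← map_comap_eq_self_of_surjective (QuotientGroup.mk'_surjective K) B,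
      le_antisymm h3 h1, QuotientGroup.map_mk'_self]⟩
  have hnab : ∃ x y : P ⧸ K, x * y ≠ y * x := by
    by_contra hc
    push Not at hc
    letI : CommGroup (P ⧸ K) := { (inferInstance : Group (P ⧸ K)) with mul_comm := hc }
    have h := Abelianization.commutator_subset_ker (QuotientGroup.mk' K)
    rw [hperf, top_le_iff, QuotientGroup.ker_mk'] at h
    exact hKt h
  have hnc : ¬ IsMulCommutative (P ⧸ K) := fun h => by
    obtain ⟨x, y, hxy⟩ := hnab
    exact hxy (h.1.1 x y)
  have hmul : Nat.card (P ⧸ K) * Nat.card K = Nat.card P := (card_eq_card_quotient_mul_card_subgroup K).symm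
  set n := Nat.card (P ⧸ K)
  have hn : 2 * n ∣ 175560 := (Nat.mul_dvd_mul_left 2 (Dvd.intro _ hmul)).trans hdvd
  have h8 : ¬ 8 ∣ n := fun h => by
    have h16 : 16 ∣ 175560 := (show 16 ∣ 2 * n by omega).trans hn
    norm_num at h16
  have hn1 : 1 < n := Finite.one_lt_card
  have h12 : 12 ∣ n := by
    refine (Cfsg.Agent.S0073.result hnab).resolve_left fun h => ?_
    have hp := Nat.minFac_prime hn1.ne'
    by_cases h2 : n.minFac = 2
    · rw [h2] at h; exact h8 h
    · exact squarefree_not_sq hp h2 ((pow_dvd_pow _ (by norm_num : 2 ≤ 3)).trans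
        ((h.trans (dvd_mul_left n 2)).trans hn))
  have h19 : ¬ 19 ∣ n := fun h => by
    refine GroupStructure3.J1Order.no_simple ((dvd_mul_left n 2).trans hn) ?_ h ?_
    · show n ≠ 175560
      rintro e; rw [e] at h8; exact h8 (by norm_num)
    · show n ≠ 19
      omega
  have hn4620 : n ∈ [12, 60, 84, 132, 420, 660, 924, 4620] := by
    obtain ⟨a, ha, b, hb, c, hc, d, hd, f, hf, g, hg, hdec⟩ :=
      GroupStructure3.J1Order.dvd_decomp ((dvd_mul_left n 2).trans hn)
    have key : ∀ a ∈ [1, 2, 4, 8], ∀ b ∈ [1, 3], ∀ c ∈ [1, 5], ∀ d ∈ [1, 7], ∀ f ∈ [1, 11],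
        ∀ g ∈ [1, 19], 12 ∣ a * b * c * d * f * g → ¬ 8 ∣ a * b * c * d * f * g →
          ¬ 19 ∣ a * b * c * d * f * g →
          a * b * c * d * f * g ∈ [12, 60, 84, 132, 420, 660, 924, 4620] := by decide +kernel
    rw [hdec] at h12 h8 h19 ⊢
    exact key a ha b hb c hc d hd f hf g hg h12 h8 h19
  have hn60 : n = 60 ∨ n = 660 ∨ n = 4620 := by
    simp only [List.mem_cons, List.not_mem_nil, or_false] at hn4620
    by_cases hle : n ≤ 1092
    · have := Cfsg.Agent.S0496.result hnc hle
      omega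
    · omega
  have hKd : Nat.card K ∣ 2926 := by
    have h60 : 60 ∣ n := by rcases hn60 with h | h | h <;> rw [h] <;> norm_num
    obtain ⟨j, hj⟩ := h60
    have h1 : Nat.card K * 60 ∣ 87780 * 2 := by
      refine dvd_trans ?_ ((dvd_mul_left (Nat.card P) 2).trans hdvd)
      exact ⟨j, by rw [← hmul, hj]; ring⟩
    exact Nat.dvd_of_mul_dvd_mul_right (by norm_num : 0 < 60) (h1.trans (dvd_of_eq (by norm_num)))
  haveI : IsZGroup K := IsZGroup.of_squarefree
    (Squarefree.squarefree_of_dvd (hKd.trans (by norm_num)) squarefree_odd_double)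
  haveI : IsCyclic (commutator K) := IsZGroup.isCyclic_commutator _
  haveI : IsCyclic ((commutator K).map K.subtype) :=
    isCyclic_of_surjective ((commutator K).equivMapOfInjective K.subtype K.subtype_injective).toMonoidHom
      (MulEquiv.surjective _)
  have hKc : commutator K = ⊥ :=
    (map_eq_bot_iff_of_injective _ K.subtype_injective).1
      (cyclic_normal_eq_bot hperf hcen ((commutator K).map K.subtype))
  haveI : IsCyclic K := by
    letI : CommGroup K := { (inferInstance : Group K) with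
      mul_comm := fun x y => by
        have h := commutator_mem_commutator (mem_top x) (mem_top y)
        rw [← _root_.commutator_def, hKc, mem_bot] at h
        exact commutatorElement_eq_one_iff_mul_comm.1 h }
    exact IsCyclic.of_exponent_eq_card (IsZGroup.exponent_eq_card _)
  have hKb : K = ⊥ := cyclic_normal_eq_bot hperf hcen K
  subst hKb
  refine ⟨P, hPn, ?_, ?_, hzP⟩
  · exact (QuotientGroup.quotientBot (G := P)).isSimpleGroup_congr.1 hsimple
  · rw [← hmul, card_bot, mul_one]; exact hn60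

end Cfsg.Agent.J1FromOrder
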