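import Cfsg.Agent.Lib.J1FromOrder.Rows
import Cfsg.Agent.Lib.Involutions.OrderFormula
import Cfsg.Agent.S0105
import Cfsg.Agent.S0204

/-! The Sylow `2`-subgroup in order `175560` is elementary abelian or dihedral. -/

set_option autoImplicit false
set_option linter.style.haveILetI false

namespace Cfsg.Agent.J1FromOrder

open Subgroup

variable {G : Type*} [Group G] [Finite G]

theorem card_sylow_two (hG : Nat.card G = 175560) (S : Sylow 2 G) : Nat.card (S : Subgroup G) = 8 := by
  haveI : Fact (Nat.Prime 2) := ⟨Nat.prime_two⟩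
  simpa using SmallSimple.Basic.card_sylow_eq_pow (a := 3) (m := 21945) (by rw [hG]; norm_num)
    (by norm_num) S

theorem not_cyclic [IsSimpleGroup G] (hG : Nat.card G = 175560) : ¬ IsCyclic G := fun h => by
  letI := IsCyclic.commGroup (α := G)
  exact not_comm (G := G) (by rw [hG]; norm_num) ⟨⟨mul_comm⟩⟩

theorem no_fixed [IsSimpleGroup G] (hG : Nat.card G = 175560) (S : Sylow 2 G)
    (hab : ∀ a ∈ (S : Subgroup G), ∀ b ∈ (S : Subgroup G), a * b = b * a) {x : G}
    (hx : x ∈ (S : Subgroup G))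
    (hfix : ∀ n ∈ normalizer ((S : Subgroup G) : Set G), n * x * n⁻¹ = x) : x = 1 := by
  haveI : Fact (Nat.Prime 2) := ⟨Nat.prime_two⟩
  obtain ⟨M, hM, ⟨e⟩⟩ := Cfsg.Agent.S0105.result S ⟨⟨fun a b => Subtype.ext (hab a a.2 b b.2)⟩⟩
  set R := (S : Subgroup G) ⊓ centralizer (normalizer ((S : Subgroup G) : Set G) : Set G)
  have hxR : x ∈ R := ⟨hx, mem_centralizer_iff.2 fun n hn => by
    rw [← mul_inv_eq_iff_eq_mul]; exact hfix n hn⟩
  have hc : M.index = Nat.card R := by rw [index_eq_card]; exact Nat.card_congr e.toEquiv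
  rcases hM.eq_bot_or_eq_top with h | h
  · have h1 : Nat.card R ∣ 8 := card_sylow_two hG S ▸ card_dvd_of_le inf_le_left
    rw [h, index_bot, hG] at hc
    rw [← hc] at h1
    norm_num at h1
  · rw [h, index_top] at hc
    simpa [card_eq_one.1 hc.symm] using hxR

theorem exp_two [IsSimpleGroup G] (hG : Nat.card G = 175560) (S : Sylow 2 G)
    (hab : ∀ a ∈ (S : Subgroup G), ∀ b ∈ (S : Subgroup G), a * b = b * a) {a : G}
    (ha : a ∈ (S : Subgroup G)) : a * a = 1 := by
  haveI : Fact (Nat.Prime 2) := ⟨Nat.prime_two⟩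
  by_contra hne
  let f : (S : Subgroup G) →* (S : Subgroup G) := MonoidHom.mk' (fun x => x * x) fun x y =>
    Subtype.ext (by
      show (x : G) * y * ((x : G) * y) = (x : G) * x * ((y : G) * y)
      rw [mul_assoc, ← mul_assoc (y : G), hab y y.2 x x.2]
      group)
  set K := f.ker ⊓ f.range
  have hprod : Nat.card f.ker * Nat.card f.range = 8 := by
    rw [← card_sylow_two hG S, ← f.ker.card_mul_index, index_ker]
  have hK : Nat.card K ≤ 2 := by
    by_contra hK
    have h1 := Nat.le_of_dvd Nat.card_pos (card_dvd_of_le (inf_le_left : K ≤ f.ker))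
    have h2 := Nat.le_of_dvd Nat.card_pos (card_dvd_of_le (inf_le_right : K ≤ f.range))
    nlinarith
  have hr2 : 2 ∣ Nat.card f.range := by
    obtain ⟨k, hk⟩ := IsPGroup.iff_card.1 ((S.2).to_subgroup f.range)
    rcases k.eq_zero_or_pos with rfl | hk0
    · have hm : f ⟨a, ha⟩ ∈ f.range := ⟨_, rfl⟩
      rw [card_eq_one.1 (by simpa using hk : Nat.card f.range = 1), mem_bot] at hm
      exact absurd (congrArg Subtype.val hm) hne
    · exact hk ▸ dvd_pow_self 2 hk0.ne'
  obtain ⟨⟨u, hu⟩, huo⟩ := exists_prime_orderOf_dvd_card' (G := f.range) 2 hr2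
  rw [orderOf_mk] at huo
  have key : ∀ v : (S : Subgroup G), v ∈ f.range → orderOf v = 2 → v = u := by
    intro v hv hvo
    have hk2 : ∀ w : (S : Subgroup G), orderOf w = 2 → w ∈ f.ker := fun w hw => by
      show w * w = 1
      have := pow_orderOf_eq_one w
      rwa [hw, sq] at this
    have hle : zpowers u ≤ K := zpowers_le.2 ⟨hk2 u huo, hu⟩
    have heq : zpowers u = K := eq_of_le_of_card_ge hle (by rw [Nat.card_zpowers, huo]; exact hK)
    have hvK : v ∈ K := ⟨hk2 v hvo, hv⟩
    rw [← heq] at hvK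
    have h := Involutions.OrderFormula.eq_middle hvo hvK
    rwa [huo, show 2 / 2 = 1 from rfl, pow_one] at h
  have h1 : (u : G) = 1 := no_fixed hG S hab u.2 fun n hn => by
    have hmem : n * (u : G) * n⁻¹ ∈ (S : Subgroup G) := (mem_normalizer_iff.1 hn u).1 u.2
    obtain ⟨w, hw⟩ := hu
    have hwn : n * (w : G) * n⁻¹ ∈ (S : Subgroup G) := (mem_normalizer_iff.1 hn w).1 w.2
    have := key ⟨_, hmem⟩ ⟨⟨_, hwn⟩, Subtype.ext (by
      show n * (w : G) * n⁻¹ * (n * (w : G) * n⁻¹) = n * (u : G) * n⁻¹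
      rw [← hw]
      show n * (w : G) * n⁻¹ * (n * (w : G) * n⁻¹) = n * ((w : G) * w) * n⁻¹
      group)⟩ (by
      rw [← Subgroup.orderOf_coe]
      show orderOf (n * (u : G) * n⁻¹) = 2
      rw [Involutions.Basic.orderOf_conj, Subgroup.orderOf_coe, huo])
    exact congrArg Subtype.val this
  rw [show u = 1 from Subtype.ext h1, orderOf_one] at huo
  norm_num at huo

theorem sylow_shape [IsSimpleGroup G] (hG : Nat.card G = 175560) :
    ∃ S : Sylow 2 G, (∀ x ∈ (S : Subgroup G), x * x = 1) ∨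
      Nonempty ((S : Subgroup G) ≃* DihedralGroup 4) := by
  haveI : Fact (Nat.Prime 2) := ⟨Nat.prime_two⟩
  obtain ⟨E, hE⟩ := Cfsg.Agent.S0204.result (not_cyclic hG)
  have hEp : IsPGroup 2 E := IsPGroup.of_card (n := 2) (by rw [hE.card_four]; norm_num)
  obtain ⟨S, hES⟩ := hEp.exists_le_sylow
  refine ⟨S, ?_⟩
  classical
  by_cases hexp : ∀ x ∈ (S : Subgroup G), x * x = 1
  · exact Or.inl hexp
  push Not at hexp
  obtain ⟨a₀, ha₀, hne⟩ := hexp
  set a : (S : Subgroup G) := ⟨a₀, ha₀⟩
  have hcomm : ¬ ∀ x y : (S : Subgroup G), x * y = y * x := fun h =>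
    hne (exp_two hG S (fun x hx y hy => congrArg Subtype.val (h ⟨x, hx⟩ ⟨y, hy⟩)) ha₀)
  have h8 := card_sylow_two hG S
  have hao : orderOf a = 4 := by
    obtain ⟨i, hi, hio⟩ := (Nat.dvd_prime_pow Nat.prime_two).1
      (show orderOf a ∣ 2 ^ 3 from (orderOf_dvd_natCard a).trans h8.dvd)
    interval_cases i
    · exact absurd (by simp [show a₀ = 1 from congrArg Subtype.val (orderOf_eq_one_iff.1 hio)]) hne
    · refine absurd ?_ hne
      have := congrArg Subtype.val (pow_orderOf_eq_one a)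
      rw [hio] at this
      simpa [sq] using this
    · exact hio
    · refine absurd (fun x y => ?_) hcomm
      haveI : IsCyclic (S : Subgroup G) := isCyclic_of_orderOf_eq_card a (by rw [hio, h8]; norm_num)
      letI := IsCyclic.commGroup (α := (S : Subgroup G))
      exact mul_comm x y
  set Z := zpowers a
  have hidx : Z.index = 2 := by
    have := Z.card_mul_index
    rw [Nat.card_zpowers, hao, h8] at this
    omega
  haveI : Z.Normal := Subgroup.normal_of_index_eq_two hidx
  haveI := hE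
  obtain ⟨e, heE, heZ⟩ : ∃ e : (S : Subgroup G), (e : G) ∈ E ∧ e ∉ Z := by
    by_contra hcon
    push Not at hcon
    have hle : E.subgroupOf (S : Subgroup G) ≤ Z := fun z hz => hcon z hz
    have heq := eq_of_le_of_card_ge hle (by
      rw [Nat.card_zpowers, hao, Nat.card_congr (subgroupOfEquivOfLe hES).toEquiv, hE.card_four])
    have : a ∈ E.subgroupOf (S : Subgroup G) := heq ▸ mem_zpowers a
    exact hne (congrArg Subtype.val (IsKleinFour.mul_self (⟨a₀, this⟩ : E)))
  have hee0 : (⟨(e : G), heE⟩ : E) * ⟨(e : G), heE⟩ = 1 := IsKleinFour.mul_self _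
  have hee : e * e = 1 := Subtype.ext (congrArg (fun z : E => (z : G)) hee0)
  have hei : e⁻¹ = e := inv_eq_of_mul_eq_one_right hee
  have hea : e * a * e⁻¹ = a⁻¹ := by
    have hm : e * a * e⁻¹ ∈ Z := (inferInstance : Z.Normal).conj_mem a (mem_zpowers a) e
    have ho : orderOf (e * a * e⁻¹) = 4 := by rw [Involutions.Basic.orderOf_conj, hao]
    rw [mem_zpowers_iff_mem_range_orderOf, hao, Finset.mem_image] at hm
    obtain ⟨k, hk, hka⟩ := hm
    rw [Finset.mem_range] at hk
    rw [← hka, orderOf_pow, hao] at ho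
    interval_cases k
    · simp at ho
    · exfalso
      rw [pow_one] at hka
      have hc : Commute e a := mul_inv_eq_iff_eq_mul.1 hka.symm
      refine hcomm fun x y => ?_
      have key : ∀ z : (S : Subgroup G), ∃ j : ℤ, z = a ^ j ∨ z = e * a ^ j := fun z => by
        by_cases hz : z ∈ Z
        · obtain ⟨j, hj⟩ := mem_zpowers_iff.1 hz
          exact ⟨j, Or.inl hj.symm⟩
        · obtain ⟨j, hj⟩ := mem_zpowers_iff.1
            (show e * z ∈ Z from (mul_mem_iff_of_index_two hidx).2 (iff_of_false heZ hz))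
          exact ⟨j, Or.inr (by rw [hj, ← mul_assoc, hee, one_mul])⟩
      obtain ⟨i, rfl | rfl⟩ := key x <;> obtain ⟨j, rfl | rfl⟩ := key y
      · exact ((Commute.refl a).zpow_zpow i j).eq
      · exact (((hc.symm.zpow_left i)).mul_right ((Commute.refl a).zpow_zpow i j)).eq
      · exact (((hc.symm.zpow_left j)).mul_right ((Commute.refl a).zpow_zpow j i)).eq.symm
      · exact ((((Commute.refl e).mul_right (hc.zpow_right j))).mul_left
          (((hc.symm.zpow_left i)).mul_right ((Commute.refl a).zpow_zpow i j))).eq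
    · norm_num at ho
    · rw [← hka]
      exact eq_inv_of_mul_eq_one_left (by
        have := pow_orderOf_eq_one a
        rw [hao] at this
        rw [← pow_succ]; exact this)
  have hinv : ∀ y, y ∉ Z → y * y = 1 := fun y hy => by
    obtain ⟨j, hj⟩ := mem_zpowers_iff.1
      (show e * y ∈ Z from (mul_mem_iff_of_index_two hidx).2 (iff_of_false heZ hy))
    have hyj : y = e * a ^ j := by rw [hj, ← mul_assoc, hee, one_mul]
    have h2 : e * a ^ j * e⁻¹ = (a ^ j)⁻¹ := by rw [← conj_zpow, hea, inv_zpow]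
    rw [hei] at h2
    rw [hyj, show e * a ^ j * (e * a ^ j) = e * a ^ j * e * a ^ j by group, h2, inv_mul_cancel]
  obtain ⟨c, -, hc, hd⟩ := Forms.DicksonShapes.dihedral_of Z hidx inferInstance hinv
  rw [Nat.card_zpowers, hao] at hc
  rw [hc] at hd
  exact Or.inr hd

end Cfsg.Agent.J1FromOrder
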